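import Mathlib
import Cfsg.Agent.Lib.Coprime.Commutator

/-! Coprime action of a group `P` of odd prime order: the fixed points in `[h, P]`, `h ∈ H`. -/

set_option autoImplicit false
set_option linter.unusedSectionVars false

namespace CfsgLib.Coprime.ElemFix

open Subgroup
open scoped commutatorElement

universe u

variable {G : Type u} [Group G]

/-- `[h, P]`. -/
def Cl (P : Subgroup G) (h : G) : Subgroup G :=
  closure {c | ∃ π ∈ P, c = h⁻¹ * π * h * π⁻¹}

/-- The subgroup generated by the fixed points in the subgroups `[h, P]`. -/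
def Lg (P H : Subgroup G) : Subgroup G :=
  ⨆ h ∈ H, Cl P h ⊓ centralizer (P : Set G)

lemma gen_mem_Cl {P : Subgroup G} {π : G} (hπ : π ∈ P) (h : G) :
    h⁻¹ * π * h * π⁻¹ ∈ Cl P h := subset_closure ⟨π, hπ, rfl⟩

lemma Cl_le_commutator {P H : Subgroup G} {h : G} (hh : h ∈ H) : Cl P h ≤ ⁅H, P⁆ := by
  refine (closure_le _).2 ?_
  rintro _ ⟨π, hπ, rfl⟩
  have e : h⁻¹ * π * h * π⁻¹ = ⁅h⁻¹, π⁆ := by simp [commutatorElement_def]
  rw [SetLike.mem_coe, e]
  exact commutator_mem_commutator (H.inv_mem hh) hπ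

lemma commutatorElement_mem_Cl {P : Subgroup G} {π : G} (hπ : π ∈ P) (h : G) :
    ⁅h, π⁆ ∈ Cl P h⁻¹ := by
  have e : ⁅h, π⁆ = h⁻¹⁻¹ * π * h⁻¹ * π⁻¹ := by simp [commutatorElement_def]
  rw [e]; exact gen_mem_Cl hπ _

lemma le_normalizer_Cl (P : Subgroup G) (h : G) : P ≤ normalizer (Cl P h : Set G) := by
  rw [Cl, Subgroup.le_normalizer_closure_iff]
  rintro a ha _ ⟨π, hπ, rfl⟩
  have e : a * (h⁻¹ * π * h * π⁻¹) * a⁻¹ =
      (h⁻¹ * a * h * a⁻¹)⁻¹ * (h⁻¹ * (a * π) * h * (a * π)⁻¹) := by group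
  rw [e]
  exact mul_mem (inv_mem (subset_closure ⟨a, ha, rfl⟩)) (subset_closure ⟨a * π, mul_mem ha hπ, rfl⟩)

lemma inf_le_Lg {P H : Subgroup G} {h : G} (hh : h ∈ H) :
    Cl P h ⊓ centralizer (P : Set G) ≤ Lg P H := le_iSup₂_of_le h hh le_rfl

lemma Lg_le_centralizer (P H : Subgroup G) : Lg P H ≤ centralizer (P : Set G) :=
  iSup₂_le fun _ _ => inf_le_right

lemma Lg_le_commutator (P H : Subgroup G) : Lg P H ≤ ⁅H, P⁆ :=
  iSup₂_le fun _ hh => inf_le_left.trans (Cl_le_commutator hh)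

lemma Lg_mono {P H M : Subgroup G} (hMH : M ≤ H) : Lg P M ≤ Lg P H :=
  iSup₂_le fun _ hh => inf_le_Lg (hMH hh)

lemma inf_centralizer_le_normalizer_Lg (P H : Subgroup G) :
    H ⊓ centralizer (P : Set G) ≤ normalizer (Lg P H : Set G) := by
  refine Subgroup.le_normalizer_iff.2 fun c hc x hx => ?_
  have hle : Lg P H ≤ (Lg P H).comap (MulAut.conj c).toMonoidHom := by
    refine iSup₂_le fun h hh y hy => ?_
    show c * y * c⁻¹ ∈ Lg P H
    refine inf_le_Lg (h := h * c⁻¹) (mul_mem hh (inv_mem hc.1)) ⟨?_,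
      mul_mem (mul_mem hc.2 hy.2) (Subgroup.inv_mem _ hc.2)⟩
    have hle' : Cl P h ≤ (Cl P (h * c⁻¹)).comap (MulAut.conj c).toMonoidHom := by
      refine (closure_le _).2 ?_
      rintro _ ⟨π, hπ, rfl⟩
      show c * (h⁻¹ * π * h * π⁻¹) * c⁻¹ ∈ Cl P (h * c⁻¹)
      have hcπ : π * c = c * π := mem_centralizer_iff.1 hc.2 π hπ
      have e : c * (h⁻¹ * π * h * π⁻¹) * c⁻¹ = (h * c⁻¹)⁻¹ * π * (h * c⁻¹) * π⁻¹ := by
        calc c * (h⁻¹ * π * h * π⁻¹) * c⁻¹ = c * h⁻¹ * π * h * (c * π)⁻¹ := by group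
          _ = c * h⁻¹ * π * h * (π * c)⁻¹ := by rw [hcπ]
          _ = _ := by group
      rw [e]; exact gen_mem_Cl hπ _
    exact hle' hy.1
  exact hle hx

lemma map_Cl {G' : Type*} [Group G'] (f : G →* G') (P : Subgroup G) (h : G) :
    (Cl P h).map f = Cl (P.map f) (f h) := by
  rw [Cl, MonoidHom.map_closure, Cl]
  congr 1
  ext y
  constructor
  · rintro ⟨_, ⟨π, hπ, rfl⟩, rfl⟩
    exact ⟨f π, mem_map_of_mem f hπ, by simp⟩
  · rintro ⟨_, ⟨π, hπ, rfl⟩, rfl⟩
    exact ⟨_, ⟨π, hπ, rfl⟩, by simp⟩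

lemma map_Lg_le {G' : Type*} [Group G'] (f : G →* G') (P H : Subgroup G) :
    (Lg P H).map f ≤ Lg (P.map f) (H.map f) := by
  rw [map_le_iff_le_comap]
  refine iSup₂_le fun h hh y hy => ?_
  refine inf_le_Lg (h := f h) (mem_map_of_mem f hh) ⟨map_Cl f P h ▸ mem_map_of_mem f hy.1, ?_⟩
  refine mem_centralizer_iff.2 ?_
  rintro _ ⟨π, hπ, rfl⟩
  rw [← map_mul, ← map_mul, mem_centralizer_iff.1 hy.2 π hπ]

variable [Finite G]

/-- The coprime action of a group of odd prime order `p` on a solvable group. -/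
structure Setting (p : ℕ) (P H : Subgroup G) : Prop where
  prime : p.Prime
  ne_two : p ≠ 2
  norm : P ≤ normalizer (H : Set G)
  card : Nat.card P = p
  cop : (Nat.card P).Coprime (Nat.card H)
  solv : Group.IsSolvable H

namespace Setting

variable {p : ℕ} {P H : Subgroup G} (hs : Setting p P H)
include hs

lemma solvableP : Group.IsSolvable P := by
  haveI := Fact.mk hs.prime
  haveI := isCyclic_of_prime_card hs.card
  infer_instance

lemma inf_eq_bot : P ⊓ H = ⊥ := Subgroup.inf_eq_bot_of_coprime hs.cop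

lemma mono {M : Subgroup G} (hMH : M ≤ H) (hPM : P ≤ normalizer (M : Set G)) : Setting p P M :=
  ⟨hs.prime, hs.ne_two, hPM, hs.card, hs.cop.coprime_dvd_right (card_dvd_of_le hMH),
    @Group.isSolvable_of_isSolvable_injective _ _ _ _ (inclusion hMH) (inclusion_injective _) hs.solv⟩

lemma commutator_le : ⁅H, P⁆ ≤ H := commutator_le_of_normalizes hs.norm

lemma Lg_le : Lg P H ≤ H := (Lg_le_commutator P H).trans hs.commutator_le

lemma Cl_le {h : G} (hh : h ∈ H) : Cl P h ≤ H := (Cl_le_commutator hh).trans hs.commutator_le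

lemma Lg_map_le {G' : Type*} [Group G'] (f : G →* G') :
    Lg (P.map f) (H.map f) ≤ (Lg P H).map f := by
  refine iSup₂_le ?_
  rintro _ ⟨h, hh, rfl⟩
  rw [← map_Cl, ← map_inf_centralizer f P (Cl P h) (le_normalizer_Cl P h)
    (hs.cop.coprime_dvd_right (card_dvd_of_le (hs.Cl_le hh))) (Or.inl hs.solvableP)]
  exact map_mono (inf_le_Lg hh)

lemma exists_zpowers : ∃ g ∈ P, P = zpowers g ∧ g ^ p = 1 ∧ P = zpowers (g ^ 2) := by
  have key : ∀ x ∈ P, x ≠ 1 → P = zpowers x := fun x hx hx1 => by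
    refine (eq_of_le_of_card_ge (zpowers_le.2 hx) ?_).symm
    have h1 : orderOf x ∣ p := hs.card ▸ Subgroup.orderOf_dvd_natCard P hx
    rw [hs.card, Nat.card_zpowers,
      ((Nat.dvd_prime hs.prime).1 h1).resolve_left fun e => hx1 (orderOf_eq_one_iff.1 e)]
  obtain ⟨x, hx, hx1⟩ : ∃ x ∈ P, x ≠ 1 := by
    haveI : Nontrivial P := Finite.one_lt_card_iff_nontrivial.1 (hs.card ▸ hs.prime.one_lt)
    obtain ⟨x, hx⟩ := exists_ne (1 : P)
    exact ⟨x, x.2, fun e => hx (Subtype.ext e)⟩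
  have hd : orderOf x ∣ p := hs.card ▸ Subgroup.orderOf_dvd_natCard P hx
  refine ⟨x, hx, key x hx hx1, orderOf_dvd_iff_pow_eq_one.1 hd, key _ (pow_mem hx 2) fun e => ?_⟩
  have ho : orderOf x = p :=
    ((Nat.dvd_prime hs.prime).1 hd).resolve_left fun e' => hx1 (orderOf_eq_one_iff.1 e')
  have h2 : p ∣ 2 := ho ▸ orderOf_dvd_of_pow_eq_one e
  exact hs.ne_two ((Nat.prime_dvd_prime_iff_eq hs.prime Nat.prime_two).1 h2)

lemma exists_decomp {K : Subgroup G} (hKH : K ≤ H) (hPK : P ≤ normalizer (K : Set G)) {k : G}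
    (hk : k ∈ K) : ∃ x ∈ ⁅K, P⁆, ∃ c ∈ K ⊓ centralizer (P : Set G), k = x * c := by
  have h1 : k ∈ (K ⊓ centralizer (P : Set G)) ⊔ ⁅K, P⁆ := by
    rw [sup_comm, commutator_sup_centralizer P K hPK (hs.mono hKH hPK).cop (Or.inl hs.solvableP)]
    exact hk
  obtain ⟨c, hc, x, hx, rfl⟩ := exists_mul_of_mem_sup
    (inf_le_left.trans (le_normalizer_commutator_left K P)) h1
  exact ⟨c * x * c⁻¹, mem_normalizer_conj (le_normalizer_commutator_left K P hc.1) hx, c, hc,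
    by group⟩

/-- If `H = [H, P]` then the fixed points lie in the derived subgroup. -/
lemma fix_le_commutator (hcomm : ⁅H, P⁆ = H) : H ⊓ centralizer (P : Set G) ≤ ⁅H, H⁆ := by
  classical
  haveI := Fintype.ofFinite P
  let cj : P → H → H := fun a v => ⟨(a : G) * v * (a : G)⁻¹, mem_normalizer_conj (hs.norm a.2) v.2⟩
  let θ : H →* Abelianization H := MonoidHom.mk' (fun v => ∏ a : P, Abelianization.of (cj a v))
    fun u v => by
      rw [← Finset.prod_mul_distrib]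
      refine Finset.prod_congr rfl fun a _ => ?_
      rw [← map_mul]
      exact congrArg _ (Subtype.ext (by simp [cj, mul_assoc]))
  have hker : ⁅H, P⁆ ≤ θ.ker.map H.subtype := by
    refine Subgroup.commutator_le.2 fun v hv b hb => ?_
    let v' : H := ⟨v, hv⟩
    let b' : P := ⟨b, hb⟩
    refine ⟨v' * (cj b' v')⁻¹, ?_, ?_⟩
    · have h1 : θ (cj b' v') = θ v' :=
        Fintype.prod_equiv (Equiv.mulRight b') (fun a => Abelianization.of (cj a (cj b' v')))
          (fun a => Abelianization.of (cj a v'))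
          fun a => congrArg _ (Subtype.ext (by simp [cj, mul_assoc]))
      show v' * (cj b' v')⁻¹ ∈ θ.ker
      rw [MonoidHom.mem_ker, map_mul, map_inv, h1, mul_inv_cancel]
    · simp only [Subgroup.coe_subtype, Subgroup.coe_mul, Subgroup.coe_inv, commutatorElement_def,
        v', b', cj]
      group
  rintro c ⟨hc, hcC⟩
  have hc' : c ∈ θ.ker.map H.subtype := hker (hcomm.symm ▸ hc)
  obtain ⟨v, hv, rfl⟩ := hc'
  have h1 : θ v = Abelianization.of v ^ p := by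
    show ∏ a : P, Abelianization.of (cj a v) = _
    rw [Finset.prod_congr rfl (fun (a : P) _ => congrArg Abelianization.of
      (Subtype.ext (conj_eq_of_mem_centralizer hcC a.2) : cj a v = v) :
      ∀ a ∈ Finset.univ, Abelianization.of (cj a v) = Abelianization.of v),
      Finset.prod_const, Finset.card_univ, ← Nat.card_eq_fintype_card, hs.card]
  have hd1 : orderOf (Abelianization.of v) ∣ p := orderOf_dvd_of_pow_eq_one (h1 ▸ hv)
  have hd2 : orderOf (Abelianization.of v) ∣ Nat.card H :=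
    (orderOf_map_dvd _ _).trans (orderOf_dvd_natCard v)
  have h2 : Abelianization.of v = 1 := orderOf_eq_one_iff.1
    (Nat.eq_one_of_dvd_coprimes (hs.card ▸ hs.cop) hd1 hd2)
  rw [← MonoidHom.mem_ker, Abelianization.ker_of] at h2
  rw [← map_subtype_commutator]
  exact mem_map_of_mem _ h2

end Setting

/-- The elements normalizing `N` and acting trivially on it modulo `T`. -/
def Act (N T : Subgroup G) : Subgroup G where
  carrier := {h | h ∈ normalizer (N : Set G) ∧ ∀ n ∈ N, h * n * h⁻¹ * n⁻¹ ∈ T}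
  one_mem' := ⟨one_mem _, fun n _ => by simp⟩
  mul_mem' := by
    rintro a b ⟨ha, ha'⟩ ⟨hb, hb'⟩
    refine ⟨mul_mem ha hb, fun n hn => ?_⟩
    have e : a * b * n * (a * b)⁻¹ * n⁻¹ =
        (a * (b * n * b⁻¹) * a⁻¹ * (b * n * b⁻¹)⁻¹) * (b * n * b⁻¹ * n⁻¹) := by group
    rw [e]
    exact mul_mem (ha' _ (mem_normalizer_conj hb hn)) (hb' n hn)
  inv_mem' := by
    rintro a ⟨ha, ha'⟩
    refine ⟨inv_mem ha, fun n hn => ?_⟩
    have e : a⁻¹ * n * a⁻¹⁻¹ * n⁻¹ = (a * (a⁻¹ * n * a) * a⁻¹ * (a⁻¹ * n * a)⁻¹)⁻¹ := by group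
    rw [e]
    exact inv_mem (ha' _ (mem_normalizer_conj' ha hn))

/-- The part of `N` controlled by the fixed points in the `[h, P]`. -/
def Tg (P H N : Subgroup G) : Subgroup G := (Lg P H ⊓ N) ⊔ ⁅N, P⁆

/-- The inductive situation. -/
structure Minimal (p : ℕ) (P H : Subgroup G) : Prop extends Setting p P H where
  comm : ⁅H, P⁆ = H
  sub : ∀ M : Subgroup G, M ≤ H → M ≠ H → P ≤ normalizer (M : Set G) →
    ⁅M, P⁆ ⊓ centralizer (P : Set G) ≤ Lg P H
  quot : ∀ N : Subgroup G, N ≤ H → N ≠ ⊥ → P ≤ normalizer (N : Set G) →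
    H ≤ normalizer (N : Set G) → H ⊓ centralizer (P : Set G) ≤ Lg P H ⊔ N

namespace Minimal

variable {p : ℕ} {P H N : Subgroup G} (hm : Minimal p P H)
include hm

lemma Tg_le (hPN : P ≤ normalizer (N : Set G)) : Tg P H N ≤ N :=
  sup_le inf_le_right (commutator_le_of_normalizes hPN)

/-- If `N` is controlled, its fixed points are. -/
lemma fix_le_of_le_Tg (hNH : N ≤ H) (hPN : P ≤ normalizer (N : Set G))
    (hab : IsMulCommutative N) (h : N ≤ Tg P H N) :
    N ⊓ centralizer (P : Set G) ≤ Lg P H := by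
  rintro n ⟨hn, hnC⟩
  obtain ⟨l, hl, t, ht, e⟩ := exists_mul_of_mem_sup
    (H := Lg P H ⊓ N) (N := ⁅N, P⁆) (inf_le_right.trans (le_normalizer_commutator_left N P)) (h hn)
  have ht' : t ∈ ⁅N, P⁆ ⊓ centralizer (P : Set G) := by
    refine ⟨ht, ?_⟩
    have e' : t = l⁻¹ * n := by rw [e]; group
    rw [e']
    exact mul_mem (Subgroup.inv_mem _ (Lg_le_centralizer P H hl.1)) hnC
  haveI := hab
  rw [commutator_inf_centralizer_eq_bot P N hPN (hm.cop.coprime_dvd_right (card_dvd_of_le hNH)),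
    mem_bot] at ht'
  rw [e, ht', mul_one]
  exact hl.1

lemma le_Tg_of_fix {W : Subgroup G} (hNH : N ≤ H) (hWN : W ≤ N)
    (hPW : P ≤ normalizer (W : Set G)) (h : W ⊓ centralizer (P : Set G) ≤ Lg P H) :
    W ≤ Tg P H N := by
  rw [← commutator_sup_centralizer P W hPW (hm.cop.coprime_dvd_right
    (card_dvd_of_le (hWN.trans hNH))) (Or.inl hm.solvableP)]
  exact sup_le ((commutator_mono hWN le_rfl).trans le_sup_right)
    (le_inf h (inf_le_left.trans hWN) |>.trans le_sup_left)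

lemma fix_le_Act (hNH : N ≤ H) (hNbot : N ≠ ⊥) (hPN : P ≤ normalizer (N : Set G))
    (hHN : H ≤ normalizer (N : Set G)) (hab : IsMulCommutative N) :
    H ⊓ centralizer (P : Set G) ≤ Act N (Tg P H N) := by
  intro c hc
  refine ⟨hHN hc.1, fun n hn => ?_⟩
  obtain ⟨l, hl, n', hn', rfl⟩ := exists_mul_of_mem_sup
    (hm.Lg_le.trans hHN) (hm.quot N hNH hNbot hPN hHN hc)
  have e0 : n' * n * n'⁻¹ = n := by
    rw [show n' * n = n * n' from congrArg Subtype.val
      (hab.is_comm.comm (⟨n', hn'⟩ : N) ⟨n, hn⟩), mul_inv_cancel_right]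
  obtain ⟨n1, hn1, n0, hn0, rfl⟩ := hm.exists_decomp hNH hPN hn
  have hlH : l ∈ H := hm.Lg_le hl
  have hlC := Lg_le_centralizer P H hl
  have h1 : l * n1 * l⁻¹ ∈ ⁅N, P⁆ := by
    have hle : ⁅N, P⁆ ≤ (⁅N, P⁆ : Subgroup G).comap (MulAut.conj l).toMonoidHom := by
      refine Subgroup.commutator_le.2 fun a ha b hb => ?_
      show l * ⁅a, b⁆ * l⁻¹ ∈ ⁅N, P⁆
      rw [conjugate_commutatorElement]
      refine commutator_mem_commutator (mem_normalizer_conj (hHN hlH) ha) ?_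
      rwa [show l * b * l⁻¹ = b by
        rw [← mem_centralizer_iff.1 hlC b hb, mul_inv_cancel_right]]
    exact hle hn1
  have h2 : l * n0 * l⁻¹ * n0⁻¹ ∈ Lg P H ⊓ N := by
    refine ⟨?_, mul_mem (mem_normalizer_conj (hHN hlH) hn0.1) (Subgroup.inv_mem _ hn0.1)⟩
    have := mem_normalizer_conj (inf_centralizer_le_normalizer_Lg P H ⟨hNH hn0.1, hn0.2⟩) (inv_mem hl)
    have h' := mul_mem hl this
    rwa [show l * (n0 * l⁻¹ * n0⁻¹) = l * n0 * l⁻¹ * n0⁻¹ by group] at h'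
  have e : l * n' * (n1 * n0) * (l * n')⁻¹ * (n1 * n0)⁻¹ =
      (l * n1 * l⁻¹) * (l * n0 * l⁻¹ * n0⁻¹) * n1⁻¹ := by
    calc _ = l * (n' * (n1 * n0) * n'⁻¹) * l⁻¹ * (n1 * n0)⁻¹ := by group
      _ = l * (n1 * n0) * l⁻¹ * (n1 * n0)⁻¹ := by rw [e0]
      _ = _ := by group
  rw [e]
  exact mul_mem (mul_mem (mem_sup_right h1) (mem_sup_left h2)) (inv_mem (mem_sup_right hn1))

lemma proper_le_Act {M : Subgroup G} (hMH : M ≤ H) (hne : M ≠ H)
    (hPM : P ≤ normalizer (M : Set G)) (hNM : N ≤ M) (hPN : P ≤ normalizer (N : Set G))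
    (hHN : H ≤ normalizer (N : Set G)) (hab : IsMulCommutative N) (hNbot : N ≠ ⊥) :
    M ≤ Act N (Tg P H N) := by
  intro m hm'
  obtain ⟨y, hy, c, hc, rfl⟩ := hm.exists_decomp hMH hPM hm'
  have hyM : y ∈ M := commutator_le_of_normalizes hPM hy
  refine mul_mem ⟨hHN (hMH hyM), fun n hn => ?_⟩
    (hm.fix_le_Act (hNM.trans hMH) hNbot hPN hHN hab ⟨hMH hc.1, hc.2⟩)
  refine hm.le_Tg_of_fix (W := ⁅M, P⁆ ⊓ N) (hNM.trans hMH) inf_le_right
    (fun a ha => inf_normalizer_le_normalizer_inf ⟨le_normalizer_commutator_right M P ha, hPN ha⟩)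
    ((inf_le_inf_right _ inf_le_left).trans (hm.sub M hMH hne hPM)) ⟨?_, ?_⟩
  · rw [show y * n * y⁻¹ * n⁻¹ = y * (n * y⁻¹ * n⁻¹) by group]
    exact mul_mem hy (mem_normalizer_conj (le_normalizer_commutator_left M P (hNM hn)) (inv_mem hy))
  · exact mul_mem (mem_normalizer_conj (hHN (hMH hyM)) hn) (Subgroup.inv_mem _ hn)

lemma fix_le_of_le_Act (hNH : N ≤ H) (hPN : P ≤ normalizer (N : Set G))
    (hab : IsMulCommutative N) {Y : Subgroup G} (hY : Y ≤ Act N (Tg P H N))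
    (hN : N ≤ ⁅Y, N⁆) : N ⊓ centralizer (P : Set G) ≤ Lg P H :=
  hm.fix_le_of_le_Tg hNH hPN hab (hN.trans (Subgroup.commutator_le.2 fun h hh n hn => (hY hh).2 n hn))

end Minimal

end CfsgLib.Coprime.ElemFix
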