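import Mathlib
import Cfsg.Agent.Lib.Coprime.ElemFix.Defs

/-! The fixed points in the `[h, P]`: a central minimal normal subgroup. -/

set_option autoImplicit false
set_option linter.unusedSectionVars false

namespace CfsgLib.Coprime.ElemFix.Minimal

open Subgroup
open scoped commutatorElement

universe u

variable {G : Type u} [Group G] [Finite G] {p q : ℕ} [Fact q.Prime] {P H N : Subgroup G}

/-- A central element of a derived subgroup lying in a Sylow subgroup lies in its derived subgroup. -/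
theorem mem_commutator_sylow {K : Type*} [Group K] [Finite K] (S : Sylow q K) {n : K}
    (hc : ∀ g : K, g * n = n * g) (hnS : n ∈ (S : Subgroup K)) (hn : n ∈ _root_.commutator K) :
    (⟨n, hnS⟩ : (S : Subgroup K)) ∈ _root_.commutator (S : Subgroup K) := by
  classical
  have key : ∀ (k : ℕ) (g₀ : K), g₀⁻¹ * n ^ k * g₀ ∈ (S : Subgroup K) → g₀⁻¹ * n ^ k * g₀ = n ^ k :=
    fun k g₀ _ => by rw [mul_assoc, (Commute.pow_left (hc g₀).symm k).eq, inv_mul_cancel_left]
  have h1 := MonoidHom.transfer_eq_pow (H := (S : Subgroup K))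
    (Abelianization.of : (S : Subgroup K) →* Abelianization (S : Subgroup K)) n key
  have h2 : MonoidHom.transfer (H := (S : Subgroup K))
      (Abelianization.of : (S : Subgroup K) →* Abelianization (S : Subgroup K)) n = 1 :=
    Abelianization.commutator_subset_ker _ hn
  rw [h2] at h1
  have h3 : (Abelianization.of (⟨n, hnS⟩ : (S : Subgroup K))) ^ (S : Subgroup K).index = 1 := by
    rw [← map_pow]; exact h1.symm
  rw [← Abelianization.ker_of, MonoidHom.mem_ker, ← orderOf_eq_one_iff]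
  have hd2 : orderOf (Abelianization.of (⟨n, hnS⟩ : (S : Subgroup K))) ∣ Nat.card (S : Subgroup K) :=
    (orderOf_map_dvd _ _).trans (orderOf_dvd_natCard _)
  refine Nat.eq_one_of_dvd_coprimes ?_ (orderOf_dvd_of_pow_eq_one h3) hd2
  obtain ⟨i, hi⟩ := IsPGroup.iff_card.1 S.isPGroup'
  rw [hi]
  exact (((Fact.out : q.Prime).coprime_iff_not_dvd.2 S.not_dvd_index).symm).pow_right i

theorem fix_le_of_central (hm : Minimal p P H) (hnq : ¬ IsPGroup q H) (hNH : N ≤ H)
    (hNne : N ≠ ⊥) (hPN : P ≤ normalizer (N : Set G)) (hHN : H ≤ normalizer (N : Set G))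
    (hNq : IsPGroup q N) (hcen : ⁅N, H⁆ = ⊥) :
    H ⊓ centralizer (P : Set G) ≤ Lg P H := by
  have hC := hm.quot N hNH hNne hPN hHN
  intro c hc
  obtain ⟨l, hl, n, hn, rfl⟩ := exists_mul_of_mem_sup (hm.Lg_le.trans hHN) (hC hc)
  refine mul_mem hl ?_
  have hnC : n ∈ centralizer (P : Set G) := by
    have := mul_mem (Subgroup.inv_mem _ (Lg_le_centralizer P H hl)) hc.2
    rwa [inv_mul_cancel_left] at this
  have hcen' : ∀ y ∈ H, y * n = n * y := fun y hy =>
    mem_centralizer_iff.1 (commutator_eq_bot_iff_le_centralizer.1 hcen hn) y hy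
  obtain ⟨S, hNS, hPS⟩ := exists_invariant_sylow_ge P H hm.norm hm.cop (Or.inl hm.solvableP) q N hNH hNq hPN
  set Q := (S : Subgroup H).map H.subtype with hQ
  have hQH : Q ≤ H := map_subtype_le _
  have hQne : Q ≠ H := fun e => hnq (e ▸ S.isPGroup'.map _)
  -- `n` lies in the derived subgroup of `Q`
  have hnQ : n ∈ ⁅Q, Q⁆ := by
    have hn' : (⟨n, hNH hn⟩ : H) ∈ _root_.commutator H := by
      have h0 := hm.fix_le_commutator hm.comm ⟨hNH hn, hnC⟩
      rw [← map_subtype_commutator] at h0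
      obtain ⟨y, hy, e⟩ := h0
      exact (Subtype.ext e : y = ⟨n, hNH hn⟩) ▸ hy
    have hnS : (⟨n, hNH hn⟩ : H) ∈ (S : Subgroup H) := by
      obtain ⟨y, hy, e⟩ := hNS hn
      exact (Subtype.ext e : y = ⟨n, hNH hn⟩) ▸ hy
    have h1 := mem_commutator_sylow S (fun g => Subtype.ext (hcen' g g.2)) hnS hn'
    have h2 : (⟨n, hNH hn⟩ : H) ∈ ⁅(S : Subgroup H), (S : Subgroup H)⁆ := by
      rw [← map_subtype_commutator]; exact ⟨_, h1, rfl⟩
    rw [hQ, ← map_commutator]
    exact ⟨_, h2, rfl⟩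
  set X := ⁅Q, P⁆ with hX
  set E := Q ⊓ centralizer (P : Set G) with hE
  have hXQ : X ≤ Q := commutator_le_of_normalizes hPS
  have hQX : Q ≤ normalizer (X : Set G) := le_normalizer_commutator_left Q P
  have hQQ : ⁅Q, Q⁆ ≤ ⁅E, E⁆ ⊔ X := by
    refine Subgroup.commutator_le.2 fun a ha b hb => ?_
    obtain ⟨x, hx, e, he, rfl⟩ := hm.exists_decomp hQH hPS ha
    have hstep : ∀ y ∈ Q, ⁅x, y⁆ ∈ X := fun y hy => by
      rw [show ⁅x, y⁆ = x * (y * x⁻¹ * y⁻¹) by rw [commutatorElement_def]; group]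
      exact mul_mem hx (mem_normalizer_conj (hQX hy) (Subgroup.inv_mem _ hx))
    obtain ⟨x', hx', e', he', rfl⟩ := hm.exists_decomp hQH hPS hb
    rw [commutatorElement_mul_left_eq_conj_mul]
    refine mul_mem (mul_mem (mul_mem (mem_sup_right hx) ?_) (Subgroup.inv_mem _ (mem_sup_right hx)))
      (mem_sup_right (hstep _ hb))
    rw [commutatorElement_mul_right_eq_mul_conj]
    refine mul_mem (mul_mem (mul_mem (mem_sup_right ?_) (mem_sup_right hx'))
      (mem_sup_left (commutator_mem_commutator he he'))) (Subgroup.inv_mem _ (mem_sup_right hx'))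
    rw [commutatorElement_def]
    exact mul_mem (mem_normalizer_conj (hQX he.1) hx') (Subgroup.inv_mem _ hx')
  have hEL : ⁅E, E⁆ ≤ Lg P H := by
    refine Subgroup.commutator_le.2 fun a ha b hb => ?_
    obtain ⟨l1, hl1, n1, hn1, rfl⟩ := exists_mul_of_mem_sup (hm.Lg_le.trans hHN) (hC ⟨hQH ha.1, ha.2⟩)
    obtain ⟨l2, hl2, n2, hn2, rfl⟩ := exists_mul_of_mem_sup (hm.Lg_le.trans hHN) (hC ⟨hQH hb.1, hb.2⟩)
    have hz : ∀ z ∈ N, ∀ y ∈ H, ⁅z, y⁆ = 1 := fun z hz y hy =>
      mem_bot.1 (hcen ▸ commutator_mem_commutator hz hy)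
    have e1 : ⁅l1 * n1, l2 * n2⁆ = ⁅l1, l2⁆ := by
      rw [commutatorElement_mul_left_eq_conj_mul, hz n1 hn1 _ (mul_mem (hm.Lg_le hl2) (hNH hn2)),
        mul_one, mul_inv_cancel, one_mul, commutatorElement_mul_right_eq_mul_conj,
        ← commutatorElement_inv n2 l1, hz n2 hn2 _ (hm.Lg_le hl1)]
      group
    rw [e1, commutatorElement_def]
    exact mul_mem (mul_mem (mul_mem hl1 hl2) (Subgroup.inv_mem _ hl1)) (Subgroup.inv_mem _ hl2)
  obtain ⟨y, hy, x, hx, e⟩ := exists_mul_of_mem_sup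
    (H := ⁅E, E⁆) (N := X) (((commutator_le_self E).trans inf_le_left).trans hQX) (hQQ hnQ)
  rw [e]
  refine mul_mem (hEL hy) (hm.sub Q hQH hQne hPS ⟨hx, ?_⟩)
  have hxe : x = y⁻¹ * n := by rw [e]; group
  rw [hxe]
  exact mul_mem (Subgroup.inv_mem _ (Lg_le_centralizer P H (hEL hy))) hnC

end CfsgLib.Coprime.ElemFix.Minimal
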