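import Mathlib
import Cfsg.Agent.Lib.RepFix.Blocks

/-! `|C(x)|² < |W|` when `x` moves a noncentral abelian normal subgroup of an irreducible group of
automorphisms generated by it and `x`. -/

set_option autoImplicit false
set_option linter.unusedSectionVars false

namespace CfsgLib.Coprime.ElemFix

open Subgroup

universe u

theorem fixed_sq_lt {W : Type u} [CommGroup W] [Finite W] {p q : ℕ} [Fact p.Prime] [hq : Fact q.Prime]
    (hp2 : p ≠ 2) (hpow : ∀ w : W, w ^ q = 1) (B : Subgroup (MulAut W))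
    (hab : ∀ a ∈ B, ∀ b ∈ B, a * b = b * a) (x : MulAut W) (hxB : x ∈ normalizer (B : Set (MulAut W)))
    (hxp : x ^ p = 1)
    (hirr : ∀ T : Subgroup W, (∀ e ∈ B, ∀ w ∈ T, e w ∈ T) → (∀ w ∈ T, x w ∈ T) → T = ⊥ ∨ T = ⊤)
    {b : MulAut W} (hb : b ∈ B) (hbx : x * b ≠ b * x) :
    Nat.card {w : W // x w = w} * Nat.card {w : W // x w = w} < Nat.card W := by
  have hnsmul : ∀ w : Additive W, q • w = 0 := fun w =>
    Additive.toMul.injective (by rw [toMul_nsmul, hpow, toMul_zero])
  haveI iM : Module (ZMod q) (Additive W) := AddCommGroup.zmodModule hnsmul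
  haveI : Finite (Additive W) := (inferInstance : Finite W)
  let f : MulAut W → (Additive W →ₗ[ZMod q] Additive W) := fun e =>
    (MonoidHom.toAdditive e.toMonoidHom).toZModLinearMap q
  have hf : ∀ e e', f (e * e') = (f e).comp (f e') := fun e e' => LinearMap.ext fun w => rfl
  have hf1 : f 1 = LinearMap.id := LinearMap.ext fun w => rfl
  let E : MulAut W →* Module.End (ZMod q) (Additive W) := ⟨⟨f, hf1⟩, hf⟩
  have hEinj : Function.Injective E := fun e e' h => MulEquiv.ext fun w =>
    congrArg Additive.toMul (LinearMap.congr_fun h (Additive.ofMul w))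
  haveI : Finite (MulAut W) := Finite.of_injective (fun e : MulAut W => (e : W → W)) DFunLike.coe_injective
  set Γ := B ⊔ zpowers x with hΓ
  have hxΓ : x ∈ Γ := mem_sup_right (mem_zpowers x)
  haveI : (B.subgroupOf Γ).Normal :=
    normal_subgroupOf_of_le_normalizer (sup_le le_normalizer (zpowers_le.2 hxB))
  have key := CfsgLib.RepFix.abelian_bound_of (p := p) (E.comp Γ.subtype) (hEinj.comp Γ.subtype_injective)
    (fun S hS => by
      rcases hirr (AddSubgroup.toSubgroup' S.toAddSubgroup)
        (fun e he w hw => hS ⟨e, mem_sup_left he⟩ _ hw) (fun w hw => hS ⟨x, hxΓ⟩ _ hw) with h | h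
      · left
        refine (Submodule.eq_bot_iff _).2 fun v hv => ?_
        have h1 : Additive.toMul v ∈ AddSubgroup.toSubgroup' S.toAddSubgroup := hv
        rw [h] at h1
        exact h1
      · right
        refine eq_top_iff.2 fun v _ => ?_
        have h1 : Additive.toMul v ∈ AddSubgroup.toSubgroup' S.toAddSubgroup := h ▸ Subgroup.mem_top _
        exact h1)
    (B.subgroupOf Γ) (fun a ha c hc => Subtype.ext (hab a ha c hc)) hp2 ⟨x, hxΓ⟩ (Subtype.ext hxp)
    (by
      intro Ω _ _ _ _ hB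
      have h0 : Nat.card {y : Ω // (⟨x, hxΓ⟩ : Γ) • y = y} = 0 := by
        haveI : IsEmpty {y : Ω // (⟨x, hxΓ⟩ : Γ) • y = y} := ⟨fun ⟨y, hy⟩ => by
          obtain ⟨z, hz⟩ := exists_ne y
          obtain ⟨g, rfl⟩ := MulAction.exists_smul_eq Γ y z
          refine hz ?_
          have hle : Γ ≤ (MulAction.stabilizer Γ y).map Γ.subtype := sup_le
            (fun e he => ⟨⟨e, mem_sup_left he⟩, hB _ he y, rfl⟩)
            (zpowers_le.2 ⟨⟨x, hxΓ⟩, hy, rfl⟩)
          exact (mem_map_iff_mem Γ.subtype_injective).1 (hle g.2)⟩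
        exact Nat.card_of_isEmpty
      rw [h0, mul_zero, add_zero]
      exact Nat.mul_lt_mul_of_pos_right
        (lt_of_le_of_ne (Fact.out : p.Prime).two_le (Ne.symm hp2)) Nat.card_pos)
    (b := ⟨b, mem_sup_left hb⟩) hb (fun e => hbx (congrArg Subtype.val e))
  have hW := Module.natCard_eq_pow_finrank (K := ZMod q) (V := Additive W)
  have hC := Module.natCard_eq_pow_finrank (K := ZMod q)
    (V := LinearMap.ker ((E.comp Γ.subtype) ⟨x, hxΓ⟩ - 1))
  rw [Nat.card_zmod] at hW hC
  have hC' : Nat.card {w : W // x w = w} = Nat.card (LinearMap.ker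
      ((E.comp Γ.subtype) ⟨x, hxΓ⟩ - 1)) := by
    refine Nat.card_congr (Equiv.subtypeEquiv Additive.ofMul fun w => ?_)
    rw [LinearMap.mem_ker, LinearMap.sub_apply, sub_eq_zero]
    exact Additive.ofMul.injective.eq_iff.symm
  rw [hC', hC, ← pow_add, show Nat.card W = Nat.card (Additive W) from rfl, hW]
  exact Nat.pow_lt_pow_right hq.out.one_lt (by omega)

end CfsgLib.Coprime.ElemFix
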