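import Mathlib
import Cfsg.Agent.Lib.Coprime.ElemFix.Defs
import Cfsg.Agent.Lib.Techniques.Basic
import Cfsg.Agent.Lib.LocalEven.InvolvesFour

/-! The fixed points in the `[h, P]`: the case of a `q`-group. -/

set_option autoImplicit false
set_option linter.unusedSectionVars false

namespace CfsgLib.Coprime.ElemFix.Minimal

open Subgroup
open scoped commutatorElement

universe u

variable {G : Type u} [Group G] [Finite G] {p q : ℕ} [Fact q.Prime] {P H : Subgroup G}

lemma le_normalizer_commutator_of {A B C : Subgroup G} (hB : A ≤ normalizer (B : Set G))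
    (hC : A ≤ normalizer (C : Set G)) : A ≤ normalizer ((⁅B, C⁆ : Subgroup G) : Set G) := fun a ha =>
  CfsgLib.Techniques.map_conj_eq_self_iff.1 (by
    rw [map_commutator, CfsgLib.Techniques.map_conj_eq_self_iff.2 (hB ha),
      CfsgLib.Techniques.map_conj_eq_self_iff.2 (hC ha)])

/-- The derived subgroup is central. -/
theorem fix_le_of_class_two (hm : Minimal p P H) (hc : ⁅⁅H, H⁆, H⁆ = ⊥) (hne : ⁅H, H⁆ ≠ ⊥) :
    H ⊓ centralizer (P : Set G) ≤ Lg P H := by
  classical
  set N := ⁅H, H⁆ with hN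
  have hNH : N ≤ H := commutator_le_self H
  have hcen : N ≤ centralizer (H : Set G) := commutator_eq_bot_iff_le_centralizer.1 hc
  have hPN : P ≤ normalizer (N : Set G) := le_normalizer_commutator_of hm.norm hm.norm
  have hHN : H ≤ normalizer (N : Set G) := le_normalizer_commutator_left H H
  have hab : IsMulCommutative N := ⟨⟨fun a b => Subtype.ext (by
    exact (mem_centralizer_iff.1 (hcen a.2) b (hNH b.2)).symm)⟩⟩
  obtain ⟨g, hgP, hPg, -, hPg2⟩ := hm.exists_zpowers
  suffices h : N ≤ Tg P H N by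
    intro c hc'
    have h0 : c ∈ N := hm.fix_le_commutator hm.comm hc'
    exact hm.fix_le_of_le_Tg hNH hPN hab h ⟨h0, hc'.2⟩
  -- commutators modulo `T`
  set T := Tg P H N with hT
  have hTN : T ≤ N := hm.Tg_le hPN
  letI : CommGroup N :=
    { (inferInstance : Group N) with mul_comm := fun a b => hab.is_comm.comm a b }
  let φ : N →* N ⧸ T.subgroupOf N := QuotientGroup.mk' _
  have hφ : ∀ z (hz : z ∈ N), φ ⟨z, hz⟩ = 1 ↔ z ∈ T := fun z hz =>
    (QuotientGroup.eq_one_iff _).trans mem_subgroupOf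
  let β : H → H → N ⧸ T.subgroupOf N := fun a b =>
    φ ⟨⁅(a : G), (b : G)⁆, commutator_mem_commutator a.2 b.2⟩
  have hcomN : ∀ z ∈ N, ∀ y ∈ H, y * z * y⁻¹ = z := fun z hz y hy => by
    rw [mem_centralizer_iff.1 (hcen hz) y hy, mul_inv_cancel_right]
  have hadd1 : ∀ a b c : H, β (a * b) c = β a c * β b c := by
    intro a b c
    show φ _ = φ _ * φ _
    rw [← map_mul]
    refine congrArg φ (Subtype.ext ?_)
    show ⁅(a : G) * b, (c : G)⁆ = ⁅(a : G), (c : G)⁆ * ⁅(b : G), (c : G)⁆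
    rw [commutatorElement_mul_left_eq_conj_mul, hcomN _ (commutator_mem_commutator b.2 c.2) a a.2]
    exact congrArg Subtype.val (hab.is_comm.comm
      (⟨_, commutator_mem_commutator b.2 c.2⟩ : N) ⟨_, commutator_mem_commutator a.2 c.2⟩)
  have hswap : ∀ a b : H, β a b = (β b a)⁻¹ := by
    intro a b
    show φ _ = (φ _)⁻¹
    rw [← map_inv]
    exact congrArg φ (Subtype.ext (commutatorElement_inv (b : G) (a : G)).symm)
  have hadd2 : ∀ a b c : H, β a (b * c) = β a b * β a c := by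
    intro a b c
    rw [hswap a, hadd1, hswap a b, hswap a c, mul_inv]
  have hzero : ∀ a b : H, (b : G) ∈ N → β a b = 1 := by
    intro a b hb
    refine ((hφ _ _).2 ?_)
    rw [commutatorElement_def, hcomN _ hb a a.2, mul_inv_cancel]
    exact one_mem _
  let cj : P → H → H := fun a v => ⟨(a : G) * v * (a : G)⁻¹, mem_normalizer_conj (hm.norm a.2) v.2⟩
  have hinv : ∀ (π : P) (a b : H), β (cj π a) (cj π b) = β a b := by
    intro π a b
    have hmem : ⁅(a : G), (b : G)⁆ ∈ N := commutator_mem_commutator a.2 b.2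
    refine QuotientGroup.eq.2 (mem_subgroupOf.2 ?_)
    show (⁅(π : G) * a * (π : G)⁻¹, (π : G) * b * (π : G)⁻¹⁆)⁻¹ * ⁅(a : G), (b : G)⁆ ∈ T
    rw [← conjugate_commutatorElement]
    have e : ((π : G) * ⁅(a : G), (b : G)⁆ * (π : G)⁻¹)⁻¹ * ⁅(a : G), (b : G)⁆ =
        ⁅(π : G), ⁅(a : G), (b : G)⁆⁻¹⁆ := by
      rw [commutatorElement_def (π : G)]; group
    rw [e, ← commutatorElement_inv]
    exact Subgroup.inv_mem _ (mem_sup_right (commutator_mem_commutator (inv_mem hmem) π.2))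
  -- two elements of the same `[h, P]` pair trivially
  have hCl : ∀ h ∈ H, ∀ a b : H, (a : G) ∈ Cl P h → (b : G) ∈ Cl P h → β a b = 1 := by
    intro h hh a b ha hb
    refine (hφ _ _).2 (hm.le_Tg_of_fix (W := Cl P h ⊓ N) hNH inf_le_right
      (fun y hy => inf_normalizer_le_normalizer_inf ⟨le_normalizer_Cl P h hy, hPN hy⟩)
      ((inf_le_inf_right _ inf_le_left).trans (inf_le_Lg hh))
      ⟨?_, commutator_mem_commutator a.2 b.2⟩)
    rw [commutatorElement_def]
    exact mul_mem (mul_mem (mul_mem ha hb) (Subgroup.inv_mem _ ha)) (Subgroup.inv_mem _ hb)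
  -- every element is congruent to a generator `h⁻¹ g h g⁻¹`
  let e : H →* H := MonoidHom.mk' (fun v => cj ⟨g, hgP⟩ v) fun u v => Subtype.ext (by simp [cj, mul_assoc])
  let f : Abelianization H →* Abelianization H :=
    (Abelianization.map e) / MonoidHom.id (Abelianization H)
  have hof : ∀ v : H, Abelianization.of v = 1 ↔ (v : G) ∈ N := by
    intro v
    rw [← MonoidHom.mem_ker, Abelianization.ker_of, hN, ← map_subtype_commutator]
    exact (mem_map_iff_mem H.subtype_injective).symm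
  have hfinj : Function.Injective f := by
    refine (injective_iff_map_eq_one f).2 fun x hx => ?_
    obtain ⟨v, rfl⟩ := QuotientGroup.mk_surjective x
    change Abelianization.of (e v) / Abelianization.of v = 1 at hx
    rw [div_eq_mul_inv, mul_comm, ← map_inv, ← map_mul, hof] at hx
    show Abelianization.of v = 1
    rw [hof]
    have hx' : ∀ π ∈ P, (v : G)⁻¹ * (π * v * π⁻¹) ∈ N := by
      have hmon : ∀ k : ℕ, (v : G)⁻¹ * (g ^ k * v * (g ^ k)⁻¹) ∈ N := by
        intro k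
        induction k with
        | zero => simp
        | succ k ih =>
          have e' : (v : G)⁻¹ * (g ^ (k + 1) * v * (g ^ (k + 1))⁻¹) =
              (v : G)⁻¹ * (g * v * g⁻¹) * (g * ((v : G)⁻¹ * (g ^ k * v * (g ^ k)⁻¹)) * g⁻¹) := by
            rw [pow_succ']; group
          rw [e']
          exact mul_mem hx (mem_normalizer_conj (hPN hgP) ih)
      intro π hπ
      obtain ⟨k, rfl⟩ : π ∈ Submonoid.powers g := by
        rw [← SetLike.mem_coe, powers_eq_zpowers, SetLike.mem_coe, ← hPg]; exact hπ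
      exact hmon k
    obtain ⟨c, hc', hcN⟩ := exists_centralizing_rep P H hm.norm hm.cop (Or.inl hm.solvableP) N hNH hPN
      v.2 hx'
    have := mul_mem (hm.fix_le_commutator hm.comm hc') (inv_mem hcN)
    rwa [show c * ((v : G)⁻¹ * c)⁻¹ = v by group] at this
  have hfsurj : Function.Surjective f := Finite.injective_iff_surjective.1 hfinj
  -- `β (g a) a = 1`
  have hga : ∀ a : H, β (cj ⟨g, hgP⟩ a) a = 1 := by
    intro a
    obtain ⟨x, hx⟩ := hfsurj (Abelianization.of a)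
    obtain ⟨h, rfl⟩ := QuotientGroup.mk_surjective x
    change Abelianization.of (e h) / Abelianization.of h = Abelianization.of a at hx
    rw [div_eq_mul_inv, mul_comm, ← map_inv, ← map_mul] at hx
    set a0 : H := h⁻¹ * e h with ha0
    have ha0Cl : (a0 : G) ∈ Cl P h := by
      show (h : G)⁻¹ * (g * h * g⁻¹) ∈ _
      rw [← mul_assoc, ← mul_assoc]
      exact gen_mem_Cl hgP _
    have hd : ((a0⁻¹ * a : H) : G) ∈ N := by
      rw [← hof, map_mul, map_inv, hx, inv_mul_cancel]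
    have hea : a = a0 * (a0⁻¹ * a) := by group
    have hd' : ((cj ⟨g, hgP⟩ (a0⁻¹ * a) : H) : G) ∈ N := mem_normalizer_conj (hPN hgP) hd
    have hcj : cj ⟨g, hgP⟩ a = cj ⟨g, hgP⟩ a0 * cj ⟨g, hgP⟩ (a0⁻¹ * a) := by
      conv_lhs => rw [hea]
      exact map_mul e _ _
    rw [hcj, hadd1]
    conv_lhs => arg 2; rw [hswap, hzero _ _ hd', inv_one]
    rw [mul_one]
    conv_lhs => rw [hea]
    rw [hadd2, hzero _ _ hd, mul_one]
    exact hCl h h.2 _ _ (mem_normalizer_conj (le_normalizer_Cl P h hgP) ha0Cl) ha0Cl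
  -- linearise
  have hg2 : ∀ w v : H, β w (cj ⟨g ^ 2, pow_mem hgP 2⟩ v) = β w v := by
    intro w v
    obtain ⟨u, rfl⟩ : ∃ u : H, cj ⟨g, hgP⟩ u = w := ⟨⟨g⁻¹ * w * g, by
      have := mem_normalizer_conj' (hm.norm hgP) w.2
      exact this⟩, Subtype.ext (by simp [cj, mul_assoc])⟩
    have h1 := hga (u * v)
    have hcjm : cj ⟨g, hgP⟩ (u * v) = cj ⟨g, hgP⟩ u * cj ⟨g, hgP⟩ v := map_mul e _ _
    rw [hcjm, hadd1, hadd2, hadd2, hga, hga, one_mul, mul_one] at h1
    have h2 : β (cj ⟨g, hgP⟩ u) v = β u (cj ⟨g, hgP⟩ v) := by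
      rw [hswap u]; exact eq_inv_of_mul_eq_one_left h1
    rw [h2, ← hinv ⟨g, hgP⟩ u (cj ⟨g, hgP⟩ v)]
    congr 1
    refine Subtype.ext ?_
    simp [cj, pow_two, mul_assoc]
  have hall : ∀ π : P, ∀ w v : H, β w (cj π v) = β w v := by
    suffices hk : ∀ (k : ℕ) (w v : H), β w (cj ⟨(g ^ 2) ^ k, pow_mem (pow_mem hgP 2) k⟩ v) = β w v by
      rintro ⟨π, hπ⟩
      obtain ⟨k, rfl⟩ : π ∈ Submonoid.powers (g ^ 2) := by
        rw [← SetLike.mem_coe, powers_eq_zpowers, SetLike.mem_coe, ← hPg2]; exact hπ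
      exact hk k
    intro k
    induction k with
    | zero => intro w v; congr 1; exact Subtype.ext (by simp [cj])
    | succ k ih =>
      intro w v
      have e' : cj ⟨(g ^ 2) ^ (k + 1), pow_mem (pow_mem hgP 2) _⟩ v =
          cj ⟨g ^ 2, pow_mem hgP 2⟩ (cj ⟨(g ^ 2) ^ k, pow_mem (pow_mem hgP 2) _⟩ v) :=
        Subtype.ext (by simp [cj, pow_succ' (g ^ 2), mul_assoc])
      rw [e', hg2, ih]
  have hone : ∀ a b : H, β a b = 1 := by
    intro a b
    let R : Subgroup H :=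
      { carrier := {y | β a y = 1}
        one_mem' := hzero a 1 (one_mem N)
        mul_mem' := fun {y z} hy hz => by
          show β a (y * z) = 1
          rw [hadd2, hy, hz, one_mul]
        inv_mem' := fun {y} hy => by
          show β a y⁻¹ = 1
          have h1 : β a (y⁻¹ * y) = 1 := by rw [inv_mul_cancel]; exact hzero a 1 (one_mem N)
          rwa [hadd2, hy, mul_one] at h1 }
    have hR : H ≤ R.map H.subtype := by
      refine hm.comm.symm.le.trans (Subgroup.commutator_le.2 fun h hh π hπ => ?_)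
      refine ⟨⟨h, hh⟩ * cj ⟨π, hπ⟩ ⟨h, hh⟩⁻¹, ?_, ?_⟩
      · show β a _ = 1
        rw [hadd2, hall, ← hadd2, mul_inv_cancel]
        exact hzero a 1 (one_mem N)
      · simp [cj, commutatorElement_def, mul_assoc]
    obtain ⟨y, hy, e'⟩ := hR b.2
    exact (Subtype.ext e' : y = b) ▸ hy
  rw [hN]
  exact Subgroup.commutator_le.2 fun a ha b hb => (hφ _ _).1 (hone ⟨a, ha⟩ ⟨b, hb⟩)

/-- The derived subgroup is not central. -/
theorem fix_le_of_class_ge_three (hm : Minimal p P H) (hq : IsPGroup q H)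
    (hc : ⁅⁅H, H⁆, H⁆ ≠ ⊥) : H ⊓ centralizer (P : Set G) ≤ Lg P H := by
  classical
  -- the last but one term of the lower central series
  obtain ⟨D, ⟨⟨hDH', hPD, hHD, hDne⟩, hDmin⟩⟩ := (Set.toFinite {D : Subgroup G |
    D ≤ ⁅H, H⁆ ∧ P ≤ normalizer (D : Set G) ∧ H ≤ normalizer (D : Set G) ∧ ⁅D, H⁆ ≠ ⊥}).exists_minimal
    ⟨⁅H, H⁆, le_rfl, le_normalizer_commutator_of hm.norm hm.norm, le_normalizer_commutator_left H H, hc⟩
  have hDH : D ≤ H := hDH'.trans (commutator_le_self H)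
  set N := ⁅D, H⁆ with hN
  have hPN : P ≤ normalizer (N : Set G) := le_normalizer_commutator_of hPD hm.norm
  have hHN : H ≤ normalizer (N : Set G) := le_normalizer_commutator_right D H
  have hND : N < D := commutator_lt_of_isPGroup (hq.to_le hDH) hq hHD (fun e => hDne (by
    rw [hN, e, commutator_eq_bot_iff_le_centralizer]; exact bot_le))
  have hNH : N ≤ H := hND.le.trans hDH
  have hNc : ⁅N, H⁆ = ⊥ := by
    by_contra hne
    exact absurd (hDmin ⟨hND.le.trans hDH', hPN, hHN, hne⟩ hND.le) (fun h => hND.ne (le_antisymm hND.le h))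
  have hcen : N ≤ centralizer (H : Set G) := commutator_eq_bot_iff_le_centralizer.1 hNc
  have hab : IsMulCommutative N := ⟨⟨fun a b => Subtype.ext (by
    exact (mem_centralizer_iff.1 (hcen a.2) b (hNH b.2)).symm)⟩⟩
  have hcomN : ∀ z ∈ N, ∀ y ∈ H, y * z * y⁻¹ = z := fun z hz y hy => by
    rw [mem_centralizer_iff.1 (hcen hz) y hy, mul_inv_cancel_right]
  have hC := hm.quot N hNH hDne hPN hHN
  suffices h : N ≤ Tg P H N ∨ H ⊓ centralizer (P : Set G) ≤ Lg P H by
    rcases h with h | h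
    · intro c hc'
      obtain ⟨l, hl, n, hn, rfl⟩ := exists_mul_of_mem_sup (hm.Lg_le.trans hHN) (hC hc')
      refine mul_mem hl (hm.fix_le_of_le_Tg hNH hPN hab h ⟨hn, ?_⟩)
      have := mul_mem (inv_mem (Lg_le_centralizer P H hl)) hc'.2
      rwa [inv_mul_cancel_left] at this
    · exact h
  by_cases hCl : ∃ h ∈ H, Cl P h = H
  · obtain ⟨h, hh, e⟩ := hCl
    right
    intro c hc'
    refine inf_le_Lg hh ⟨?_, hc'.2⟩
    rw [e]; exact hc'.1
  left
  -- `d ↦ [d, c]` and `a ↦ [d, a]` are homomorphisms into the central subgroup `N`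
  set T := Tg P H N with hT
  have hbil1 : ∀ d ∈ D, ∀ d' ∈ D, ∀ a ∈ H, ⁅d * d', a⁆ = ⁅d, a⁆ * ⁅d', a⁆ := by
    intro d hd d' hd' a ha
    rw [commutatorElement_mul_left_eq_conj_mul, hcomN _ (commutator_mem_commutator hd' ha) d (hDH hd)]
    exact congrArg Subtype.val (hab.is_comm.comm
      (⟨_, commutator_mem_commutator hd' ha⟩ : N) ⟨_, commutator_mem_commutator hd ha⟩)
  have hbil2 : ∀ d ∈ D, ∀ a ∈ H, ∀ a' ∈ H, ⁅d, a * a'⁆ = ⁅d, a⁆ * ⁅d, a'⁆ := by
    intro d hd a ha a' ha'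
    rw [commutatorElement_mul_right_eq_mul_conj, mul_assoc ⁅d, a⁆, mul_assoc ⁅d, a⁆,
      hcomN _ (commutator_mem_commutator hd ha') a ha]
  -- the subgroup of `H` pairing into `T` with all of `D`
  let Y : Subgroup G :=
    { carrier := {a | a ∈ H ∧ ∀ d ∈ D, ⁅d, a⁆ ∈ T}
      one_mem' := ⟨one_mem H, fun d _ => by simp⟩
      mul_mem' := fun {a a'} ha ha' => ⟨mul_mem ha.1 ha'.1, fun d hd => by
        rw [hbil2 d hd a ha.1 a' ha'.1]; exact mul_mem (ha.2 d hd) (ha'.2 d hd)⟩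
      inv_mem' := fun {a} ha => ⟨inv_mem ha.1, fun d hd => by
        have h1 := hbil2 d hd a⁻¹ (inv_mem ha.1) a ha.1
        rw [inv_mul_cancel, commutatorElement_one_right] at h1
        rw [eq_inv_of_mul_eq_one_left h1.symm]
        exact inv_mem (ha.2 d hd)⟩ }
  suffices hY : ⁅H, P⁆ ≤ Y by
    rw [hN]
    exact Subgroup.commutator_le.2 fun d hd a ha => (hY (hm.comm.symm ▸ ha)).2 d hd
  refine Subgroup.commutator_le.2 fun h hh π hπ => ⟨hm.comm.le (commutator_mem_commutator hh hπ), ?_⟩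
  intro d hd
  have haH : ⁅h, π⁆ ∈ H := hm.comm.le (commutator_mem_commutator hh hπ)
  obtain ⟨d1, hd1, d0, hd0, rfl⟩ := hm.exists_decomp hDH hPD hd
  have hd1D : d1 ∈ D := commutator_le_of_normalizes hPD hd1
  rw [hbil1 d1 hd1D d0 hd0.1 _ haH]
  refine mul_mem ?_ ?_
  · -- the part in `[D, P]`
    set K := Cl P h⁻¹
    have hKH : K ≤ H := hm.Cl_le (inv_mem hh)
    set M := K ⊔ ⁅H, H⁆ with hM
    have hMH : M ≤ H := sup_le hKH (commutator_le_self H)
    have hPM : P ≤ normalizer (M : Set G) := (le_inf (le_normalizer_Cl P h⁻¹)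
      (le_normalizer_commutator_of hm.norm hm.norm)).trans
      (normalizer_inf_normalizer_le_normalizer_sup _ _)
    have hMne : M ≠ H := by
      intro e
      refine hCl ⟨h⁻¹, inv_mem hh, le_antisymm hKH ?_⟩
      have h1 : K.subgroupOf H ⊔ frattini H = ⊤ := by
        refine eq_top_iff.2 fun y _ => ?_
        have hy : (y : G) ∈ M := e.symm ▸ y.2
        rw [hM, ← map_subtype_commutator, ← map_subgroupOf_eq_of_le hKH, ← Subgroup.map_sup] at hy
        exact sup_le_sup_left (CfsgLib.PGroup.commutator_le_frattini hq) _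
          ((mem_map_iff_mem H.subtype_injective).1 hy)
      exact subgroupOf_eq_top.1 (frattini_nongenerating h1)
    have hDM : D ≤ M := hDH'.trans le_sup_right
    obtain ⟨x, hx, c, hc', e⟩ := hm.exists_decomp hMH hPM
      (show ⁅h, π⁆ ∈ M from mem_sup_left (commutatorElement_mem_Cl hπ h))
    have hxM : x ∈ M := commutator_le_of_normalizes hPM hx
    rw [e, hbil2 d1 hd1D x (hMH hxM) c (hMH hc'.1)]
    refine mul_mem ?_ ?_
    · refine hm.le_Tg_of_fix (W := ⁅M, P⁆ ⊓ N) hNH inf_le_right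
        (fun a ha => inf_normalizer_le_normalizer_inf ⟨le_normalizer_commutator_right M P ha, hPN ha⟩)
        ((inf_le_inf_right _ inf_le_left).trans (hm.sub M hMH hMne hPM))
        ⟨?_, commutator_mem_commutator hd1D (hMH hxM)⟩
      have hd1X : d1 ∈ ⁅M, P⁆ := commutator_mono hDM le_rfl hd1
      rw [commutatorElement_def]
      exact mul_mem (mul_mem (mul_mem hd1X hx) (Subgroup.inv_mem _ hd1X)) (Subgroup.inv_mem _ hx)
    · let F : D →* G := MonoidHom.mk' (fun y => ⁅(y : G), c⁆) fun y z =>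
        hbil1 y y.2 z z.2 c (hMH hc'.1)
      have hle : ⁅D, P⁆ ≤ ((⁅N, P⁆ : Subgroup G).comap F).map D.subtype := by
        refine Subgroup.commutator_le.2 fun y hy b hb => ?_
        have hby : b * y⁻¹ * b⁻¹ ∈ D := mem_normalizer_conj (hPD hb) (inv_mem hy)
        refine ⟨⟨y, hy⟩ * ⟨_, hby⟩, ?_, by simp [commutatorElement_def, mul_assoc]⟩
        show F _ ∈ ⁅N, P⁆
        rw [map_mul]
        show ⁅y, c⁆ * ⁅b * y⁻¹ * b⁻¹, c⁆ ∈ _
        have hbc : b * c * b⁻¹ = c := conj_eq_of_mem_centralizer hc'.2 hb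
        rw [show ⁅b * y⁻¹ * b⁻¹, c⁆ = ⁅b * y⁻¹ * b⁻¹, b * c * b⁻¹⁆ by rw [hbc]]
        rw [← conjugate_commutatorElement]
        have h1 : ⁅y⁻¹, c⁆ = ⁅y, c⁆⁻¹ := by
          refine eq_inv_of_mul_eq_one_left ?_
          rw [← hbil1 y⁻¹ (inv_mem hy) y hy c (hMH hc'.1), inv_mul_cancel, commutatorElement_one_left]
        rw [h1, show ⁅y, c⁆ * (b * ⁅y, c⁆⁻¹ * b⁻¹) = ⁅⁅y, c⁆, b⁆ by
          simp only [commutatorElement_def ⁅y, c⁆ b]; group]
        exact commutator_mem_commutator (commutator_mem_commutator hy (hMH hc'.1)) hb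
      obtain ⟨y, hy, rfl⟩ := hle hd1
      exact mem_sup_right hy
  · -- the fixed part
    have e : ⁅h, π⁆ = h * (π * h⁻¹ * π⁻¹) := by rw [commutatorElement_def]; group
    have hπh : π * h⁻¹ * π⁻¹ ∈ H := mem_normalizer_conj (hm.norm hπ) (inv_mem hh)
    rw [e, hbil2 d0 hd0.1 h hh _ hπh]
    have hπd : π * d0 * π⁻¹ = d0 := conj_eq_of_mem_centralizer hd0.2 hπ
    have h1 : ⁅d0, π * h⁻¹ * π⁻¹⁆ = π * ⁅d0, h⁆⁻¹ * π⁻¹ := by
      conv_lhs => rw [← hπd]
      rw [← conjugate_commutatorElement]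
      congr 2
      refine eq_inv_of_mul_eq_one_left ?_
      rw [← hbil2 d0 hd0.1 _ (inv_mem hh) h hh, inv_mul_cancel, commutatorElement_one_right]
    rw [h1, show ⁅d0, h⁆ * (π * ⁅d0, h⁆⁻¹ * π⁻¹) = ⁅⁅d0, h⁆, π⁆ by
      simp only [commutatorElement_def ⁅d0, h⁆ π]; group]
    exact mem_sup_right (commutator_mem_commutator (commutator_mem_commutator hd0.1 hh) hπ)

theorem fix_le_of_isPGroup (hm : Minimal p P H) (hq : IsPGroup q H) :
    H ⊓ centralizer (P : Set G) ≤ Lg P H := by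
  by_cases hne : ⁅H, H⁆ = ⊥
  · haveI : IsMulCommutative H := ⟨⟨fun a b => Subtype.ext (mem_centralizer_iff.1
      (commutator_eq_bot_iff_le_centralizer.1 hne b.2) a a.2)⟩⟩
    have h := commutator_inf_centralizer_eq_bot P H hm.norm hm.cop
    rw [hm.comm] at h
    rw [h]; exact bot_le
  by_cases hc : ⁅⁅H, H⁆, H⁆ = ⊥
  · exact fix_le_of_class_two hm hc hne
  · exact fix_le_of_class_ge_three hm hq hc

end CfsgLib.Coprime.ElemFix.Minimal
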