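import Mathlib
import Cfsg.Agent.Lib.Coprime.ElemFix.PGroupCase
import Cfsg.Agent.Lib.Coprime.ElemFix.Central
import Cfsg.Agent.Lib.Coprime.ElemFix.Count

/-! Coprime action of a group of odd prime order on a solvable group `H`: the fixed points in
`[H, P]` are generated by the fixed points in the `[h, P]`, `h ∈ H`. -/

set_option autoImplicit false
set_option linter.unusedSectionVars false

namespace CfsgLib.Coprime.ElemFix

open Subgroup
open scoped commutatorElement

universe u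

variable {G : Type u} [Group G] [Finite G] {p : ℕ}

/-- An abelian invariant normal subgroup of prime exponent, minimal. -/
theorem exists_minimal {P H : Subgroup G} (hs : Setting p P H) (hHne : H ≠ ⊥) :
    ∃ (N : Subgroup G) (q : ℕ), q.Prime ∧ N ≤ H ∧ N ≠ ⊥ ∧ P ≤ normalizer (N : Set G) ∧
      H ≤ normalizer (N : Set G) ∧ IsMulCommutative N ∧ (∀ n ∈ N, n ^ q = 1) ∧
      ∀ M : Subgroup G, M ≤ N → P ≤ normalizer (M : Set G) → H ≤ normalizer (M : Set G) →
        M = ⊥ ∨ M = N := by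
  classical
  obtain ⟨N, ⟨⟨hNH, hNne, hPN, hHN⟩, hmin⟩⟩ := (Set.toFinite {N : Subgroup G |
    N ≤ H ∧ N ≠ ⊥ ∧ P ≤ normalizer (N : Set G) ∧ H ≤ normalizer (N : Set G)}).exists_minimal
    ⟨H, le_rfl, hHne, hs.norm, le_normalizer⟩
  have hmin' : ∀ M : Subgroup G, M ≤ N → P ≤ normalizer (M : Set G) → H ≤ normalizer (M : Set G) →
      M = ⊥ ∨ M = N := fun M hMN hPM hHM => or_iff_not_imp_left.2 fun hne =>
    le_antisymm hMN (hmin ⟨hMN.trans hNH, hne, hPM, hHM⟩ hMN)
  have hab : IsMulCommutative N := by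
    rcases hmin' ⁅N, N⁆ (commutator_le_self N) (Minimal.le_normalizer_commutator_of hPN hPN)
      (Minimal.le_normalizer_commutator_of hHN hHN) with h | h
    · exact ⟨⟨fun a b => Subtype.ext (mem_centralizer_iff.1
        (commutator_eq_bot_iff_le_centralizer.1 h b.2) a a.2)⟩⟩
    · exfalso
      haveI := hs.solv
      have hne' : N.subgroupOf H ≠ ⊥ := fun e => hNne (by
        rw [← map_subgroupOf_eq_of_le hNH, e, Subgroup.map_bot])
      refine (Group.IsSolvable.commutator_lt_of_ne_bot hne').ne (map_injective H.subtype_injective ?_)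
      rw [map_commutator, map_subgroupOf_eq_of_le hNH, h]
  obtain ⟨q, hq, hqd⟩ := Nat.exists_prime_and_dvd
    (show Nat.card N ≠ 1 from fun e => hNne (card_eq_one.1 e))
  haveI := Fact.mk hq
  letI : CommGroup N :=
    { (inferInstance : Group N) with mul_comm := fun a b => hab.is_comm.comm a b }
  let M : Subgroup G := (powMonoidHom q : N →* N).ker.map N.subtype
  have hMN : M ≤ N := map_subtype_le _
  have hnorm : ∀ A : Subgroup G, A ≤ normalizer (N : Set G) → A ≤ normalizer (M : Set G) := by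
    intro A hA
    refine Subgroup.le_normalizer_iff.2 fun a ha x hx => ?_
    obtain ⟨y, hy, rfl⟩ := hx
    refine ⟨⟨a * y * a⁻¹, mem_normalizer_conj (hA ha) y.2⟩, ?_, rfl⟩
    refine Subtype.ext ?_
    show (a * (y : G) * a⁻¹) ^ q = 1
    rw [conj_pow, show (y : G) ^ q = 1 from congrArg Subtype.val hy]
    group
  refine ⟨N, q, hq, hNH, hNne, hPN, hHN, hab, ?_, hmin'⟩
  rcases hmin' M hMN (hnorm P hPN) (hnorm H hHN) with h | h
  · exfalso
    obtain ⟨y, hy⟩ := exists_prime_orderOf_dvd_card' q hqd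
    have h1 : (y : G) ∈ M := ⟨y, (show y ^ q = 1 by rw [← hy, pow_orderOf_eq_one]), rfl⟩
    rw [h, mem_bot] at h1
    rw [show y = 1 from Subtype.ext h1, orderOf_one] at hy
    exact hq.one_lt.ne hy
  · intro n hn
    rw [← h] at hn
    obtain ⟨y, hy, rfl⟩ := hn
    exact congrArg Subtype.val hy

namespace Minimal

variable {P H N : Subgroup G} {q : ℕ} [Fact q.Prime]

/-- A subgroup containing a Sylow subgroup of `H` for every prime contains `H`. -/
lemma le_of_sylows {H S : Subgroup G}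
    (h : ∀ r : ℕ, r.Prime → ∃ R : Sylow r H, (R : Subgroup H).map H.subtype ≤ S) : H ≤ S := by
  have hdvd : Nat.card H ∣ Nat.card (H ⊓ S : Subgroup G) := by
    rw [← Nat.factorization_le_iff_dvd Nat.card_pos.ne' Nat.card_pos.ne']
    intro r
    by_cases hr : r.Prime
    · haveI := Fact.mk hr
      obtain ⟨Q, hQ⟩ := h r hr
      have h1 : r ^ (Nat.card H).factorization r ∣ Nat.card (H ⊓ S : Subgroup G) := by
        rw [← Q.card_eq_multiplicity, ← Subgroup.card_subtype H]
        exact Subgroup.card_dvd_of_le (le_inf (Subgroup.map_subtype_le _) hQ)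
      exact (hr.pow_dvd_iff_le_factorization Nat.card_pos.ne').1 h1
    · simp [Nat.factorization_eq_zero_of_not_prime _ hr]
  exact (eq_of_le_of_card_ge inf_le_left (Nat.le_of_dvd Nat.card_pos hdvd)).symm.le.trans inf_le_right

/-- Components of a fixed element in an invariant semidirect decomposition. -/
lemma fixed_components {P R N : Subgroup G} (hPN : P ≤ normalizer (N : Set G))
    (hPR : P ≤ normalizer (R : Set G)) (hinf : N ⊓ R = ⊥) {n r : G} (hn : n ∈ N) (hr : r ∈ R)
    (h : n * r ∈ centralizer (P : Set G)) :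
    n ∈ centralizer (P : Set G) ∧ r ∈ centralizer (P : Set G) := by
  have hkey : ∀ π ∈ P, π * n * π⁻¹ = n ∧ π * r * π⁻¹ = r := by
    intro π hπ
    have h1 : π * n * π⁻¹ * (π * r * π⁻¹) = n * r := by
      rw [show π * n * π⁻¹ * (π * r * π⁻¹) = π * (n * r) * π⁻¹ by group,
        conj_eq_of_mem_centralizer h hπ]
    have h2 : n⁻¹ * (π * n * π⁻¹) ∈ N ⊓ R := by
      refine ⟨mul_mem (Subgroup.inv_mem _ hn) (mem_normalizer_conj (hPN hπ) hn), ?_⟩
      have e : n⁻¹ * (π * n * π⁻¹) = r * (π * r * π⁻¹)⁻¹ := by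
        calc n⁻¹ * (π * n * π⁻¹) = n⁻¹ * (π * n * π⁻¹ * (π * r * π⁻¹)) * (π * r * π⁻¹)⁻¹ := by group
          _ = n⁻¹ * (n * r) * (π * r * π⁻¹)⁻¹ := by rw [h1]
          _ = _ := by group
      rw [e]
      exact mul_mem hr (Subgroup.inv_mem _ (mem_normalizer_conj (hPR hπ) hr))
    rw [hinf, mem_bot, inv_mul_eq_one] at h2
    refine ⟨h2.symm, ?_⟩
    rw [← h2] at h1
    exact mul_left_cancel h1
  exact ⟨mem_centralizer_iff.2 fun π hπ => mul_inv_eq_iff_eq_mul.1 (hkey π hπ).1,
    mem_centralizer_iff.2 fun π hπ => mul_inv_eq_iff_eq_mul.1 (hkey π hπ).2⟩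

/-- Every element of `N` is a product of two fixed elements, one of them moved by `u`. -/
theorem exists_factor (hm : Minimal p P H) {R : Subgroup G} {r : ℕ} [Fact r.Prime] (SR : Sylow r H)
    (hR : R = (SR : Subgroup H).map H.subtype) (hPR : P ≤ normalizer (R : Set G)) (hRH : R ≤ H)
    (hNH : N ≤ H) (hPN : P ≤ normalizer (N : Set G)) (hHN : H ≤ normalizer (N : Set G))
    (hab : IsMulCommutative N)
    (hmin : ∀ M : Subgroup G, M ≤ N → P ≤ normalizer (M : Set G) → H ≤ normalizer (M : Set G) →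
      M = ⊥ ∨ M = N)
    (hRN : R ⊔ N = H) (hinf : N ⊓ R = ⊥) (hcard : Nat.card H = Nat.card R * Nat.card N)
    {Y : Subgroup G} (hY : Y = (R ⊓ centralizer (P : Set G)) ⊔ ⁅R, R⁆)
    (hYc : Y ≤ centralizer (N : Set G)) {u : G} (hu : u ∈ R) (hClu : Cl P u = R)
    (hwhole : ¬ ∃ h ∈ H, Cl P h = H) {v : G} (hv : v ∈ N) :
    ∃ a ∈ N ⊓ centralizer (P : Set G), ∃ b ∈ N ⊓ centralizer (P : Set G), v = a * (u * b * u⁻¹) := by
  subst hY
  set C0 := N ⊓ centralizer (P : Set G) with hC0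
  have hh : v * u ∈ H := mul_mem (hNH hv) (hRH hu)
  set S' := Cl P (v * u) with hS'
  have hS'H : S' ≤ H := hm.Cl_le hh
  have hsup : S' ⊔ N = H := by
    refine le_antisymm (sup_le hS'H hNH) ?_
    rw [← hRN]
    refine sup_le ?_ le_sup_right
    rw [← hClu, Cl, closure_le]
    rintro _ ⟨π, hπ, rfl⟩
    have hw : u⁻¹ * (v⁻¹ * (π * v * π⁻¹)) * u ∈ N :=
      mem_normalizer_conj' (hHN (hRH hu)) (mul_mem (Subgroup.inv_mem _ hv) (mem_normalizer_conj (hPN hπ) hv))
    have e : u⁻¹ * π * u * π⁻¹ =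
        (u⁻¹ * (v⁻¹ * (π * v * π⁻¹)) * u)⁻¹ * ((v * u)⁻¹ * π * (v * u) * π⁻¹) := by group
    rw [SetLike.mem_coe, e]
    exact mul_mem (mem_sup_right (Subgroup.inv_mem _ hw)) (mem_sup_left (gen_mem_Cl hπ _))
  have hinf' : N ⊓ S' = ⊥ := by
    rcases hmin (N ⊓ S') inf_le_left
      (fun a ha => inf_normalizer_le_normalizer_inf ⟨hPN ha, le_normalizer_Cl P _ ha⟩)
      (hsup.ge.trans (sup_le (fun a ha => inf_normalizer_le_normalizer_inf ⟨hHN (hS'H ha), le_normalizer ha⟩)
        (Subgroup.le_normalizer_iff.2 fun a ha y hy => by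
          rw [show a * y = y * a from congrArg Subtype.val (hab.is_comm.comm (⟨a, ha⟩ : N) ⟨y, hy.1⟩),
            mul_inv_cancel_right]
          exact hy))) with h | h
    · exact h
    · exfalso
      exact hwhole ⟨v * u, hh, (sup_eq_left.2 (h.ge.trans inf_le_right)).symm.trans hsup⟩
  have hcardS : Nat.card S' = Nat.card R := by
    have h1 := card_sup_of_disjoint (hS'H.trans hHN) hinf'
    rw [hsup, hcard] at h1
    exact (Nat.eq_of_mul_eq_mul_right Nat.card_pos h1).symm
  let SQ : Sylow r H := Sylow.ofCard (S'.subgroupOf H)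
    (by rw [card_subgroupOf hS'H, hcardS, hR, Subgroup.card_subtype, SR.card_eq_multiplicity])
  have hSQ : (SQ : Subgroup H).map H.subtype = S' := by
    show (S'.subgroupOf H).map H.subtype = S'
    exact map_subgroupOf_eq_of_le hS'H
  obtain ⟨c, hcC, hc⟩ := invariant_sylow_conj P H hm.norm hm.cop (Or.inl hm.solvableP) r SR SQ (hR ▸ hPR)
    (by rw [hSQ]; exact le_normalizer_Cl P _)
  have hsplit : ∀ y ∈ H, y ∈ centralizer (P : Set G) →
      ∃ a ∈ C0, ∃ b ∈ R ⊓ centralizer (P : Set G), y = a * b := by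
    intro y hyH hyC
    obtain ⟨b, hb, a, ha, rfl⟩ := exists_mul_of_mem_sup (hRH.trans hHN) (show y ∈ R ⊔ N from hRN.ge hyH)
    have e : b * a = (b * a * b⁻¹) * b := by group
    have ha' : b * a * b⁻¹ ∈ N := mem_normalizer_conj (hHN (hRH hb)) ha
    rw [e] at hyC
    obtain ⟨h1, h2⟩ := fixed_components hPN hPR hinf ha' hb hyC
    exact ⟨_, ⟨ha', h1⟩, b, ⟨hb, h2⟩, e⟩
  obtain ⟨n0, hn0, r0, hr0, hcn⟩ := hsplit c c.2 hcC
  have hmemS : ∀ y, y ∈ S' → n0⁻¹ * y * n0 ∈ R := by
    intro y hy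
    rw [← hSQ, ← hc, mem_map_subtype_smul, ← hR] at hy
    have := mem_normalizer_conj (le_normalizer hr0.1) hy
    rw [hcn] at this
    rwa [show r0 * ((n0 * r0)⁻¹ * y * (n0 * r0)) * r0⁻¹ = n0⁻¹ * y * n0 by group] at this
  obtain ⟨c', hc', hcs⟩ := exists_centralizing_rep P H hm.norm hm.cop (Or.inl hm.solvableP) S' hS'H
    (le_normalizer_Cl P _) hh fun π hπ => by
      rw [show (v * u)⁻¹ * (π * (v * u) * π⁻¹) = (v * u)⁻¹ * π * (v * u) * π⁻¹ by group]
      exact gen_mem_Cl hπ _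
  obtain ⟨a, ha, r1, hr1, hc'a⟩ := hsplit c' hc'.1 hc'.2
  set ρ := n0⁻¹ * (c'⁻¹ * (v * u)) * n0 with hρ
  have hρR : ρ ∈ R := by
    refine hmemS _ ?_
    have := Subgroup.inv_mem _ hcs
    rwa [mul_inv_rev, inv_inv] at this
  have hr1n : r1 * n0 = n0 * r1 := (mem_centralizer_iff.1 (hYc (mem_sup_left hr1)) n0 hn0.1).symm
  set z := r1 * ρ with hz
  have hzR : z ∈ R := mul_mem hr1.1 hρR
  have hvu : v * u = (a * n0 * (z * n0⁻¹ * z⁻¹)) * z := by
    calc v * u = c' * n0 * ρ * n0⁻¹ := by rw [hρ]; group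
      _ = a * (r1 * n0) * ρ * n0⁻¹ := by rw [hc'a]; group
      _ = a * (n0 * r1) * ρ * n0⁻¹ := by rw [hr1n]
      _ = _ := by rw [hz]; group
  have hN' : a * n0 * (z * n0⁻¹ * z⁻¹) ∈ N := mul_mem (mul_mem ha.1 hn0.1)
    (mem_normalizer_conj (hHN (hRH hzR)) (Subgroup.inv_mem _ hn0.1))
  have huz : u = z := by
    have h1 : v⁻¹ * (a * n0 * (z * n0⁻¹ * z⁻¹)) ∈ N ⊓ R := by
      refine ⟨mul_mem (Subgroup.inv_mem _ hv) hN', ?_⟩
      rw [show v⁻¹ * (a * n0 * (z * n0⁻¹ * z⁻¹)) =
        v⁻¹ * ((a * n0 * (z * n0⁻¹ * z⁻¹)) * z) * z⁻¹ by group, ← hvu, inv_mul_cancel_left]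
      exact mul_mem hu (Subgroup.inv_mem _ hzR)
    rw [hinf, mem_bot, inv_mul_eq_one] at h1
    rw [← h1] at hvu
    exact mul_left_cancel hvu
  refine ⟨a * n0, mul_mem ha hn0, n0⁻¹, Subgroup.inv_mem _ hn0, ?_⟩
  rw [← huz] at hvu
  exact mul_right_cancel hvu

theorem fix_le_of_noncentral (hm : Minimal p P H) (hnq : ¬ IsPGroup q H) (hNH : N ≤ H)
    (hNne : N ≠ ⊥) (hPN : P ≤ normalizer (N : Set G)) (hHN : H ≤ normalizer (N : Set G))
    (hab : IsMulCommutative N) (hpow : ∀ n ∈ N, n ^ q = 1)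
    (hmin : ∀ M : Subgroup G, M ≤ N → P ≤ normalizer (M : Set G) → H ≤ normalizer (M : Set G) →
      M = ⊥ ∨ M = N)
    (hnc : ⁅N, H⁆ ≠ ⊥) : N ⊓ centralizer (P : Set G) ≤ Lg P H := by
  classical
  haveI := Fact.mk hm.prime
  set S := Act N (Tg P H N) with hS
  have hNHN : N = ⁅H, N⁆ := by
    rcases hmin ⁅N, H⁆ (commutator_le_of_normalizes hHN) (le_normalizer_commutator_of hPN hm.norm)
      (le_normalizer_commutator_right N H) with h | h
    · exact absurd h hnc
    · rw [commutator_comm, h]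
  by_cases hHS : H ≤ S
  · exact hm.fix_le_of_le_Act hNH hPN hab hHS hNHN.le
  have hfix : H ⊓ centralizer (P : Set G) ≤ S := hm.fix_le_Act hNH hNne hPN hHN hab
  have hprop : ∀ M : Subgroup G, M ≤ H → P ≤ normalizer (M : Set G) → N ≤ M → M ≠ H → M ≤ S :=
    fun M hMH hPM hNM hne => hm.proper_le_Act hMH hne hPM hNM hPN hHN hab hNne
  have hsupnorm : ∀ A : Subgroup G, P ≤ normalizer (A : Set G) → P ≤ normalizer ((A ⊔ N : Subgroup G) : Set G) :=
    fun A hA => (le_inf hA hPN).trans (normalizer_inf_normalizer_le_normalizer_sup _ _)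
  -- the complement
  obtain ⟨r, hr, SR, hPR, hRN⟩ : ∃ r : ℕ, r.Prime ∧ ∃ SR : Sylow r H,
      P ≤ normalizer ((SR : Subgroup H).map H.subtype : Set G) ∧
      (SR : Subgroup H).map H.subtype ⊔ N = H := by
    by_contra! hno
    refine hHS (le_of_sylows fun r hr => ?_)
    haveI := Fact.mk hr
    obtain ⟨SR, hPR⟩ := exists_invariant_sylow P H hm.norm hm.cop (Or.inl hm.solvableP) r
    exact ⟨SR, le_sup_left.trans
      (hprop _ (sup_le (map_subtype_le _) hNH) (hsupnorm _ hPR) le_sup_right (hno r hr SR hPR))⟩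
  haveI := Fact.mk hr
  set R := (SR : Subgroup H).map H.subtype with hR
  have hRr : IsPGroup r R := SR.isPGroup'.map _
  have hNq : IsPGroup q N := fun n => ⟨1, Subtype.ext (by rw [pow_one]; exact hpow n n.2)⟩
  have hRH : R ≤ H := map_subtype_le _
  have hrq : r ≠ q := by
    rintro rfl
    have h1 := IsPGroup.to_sup_of_normal_right' hRr hNq (hRH.trans hHN)
    rw [hRN] at h1
    exact hnq h1
  have hinf : N ⊓ R = ⊥ := disjoint_iff.1 (IsPGroup.disjoint_of_ne q r hrq.symm N R hNq hRr)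
  have hcard : Nat.card H = Nat.card R * Nat.card N := by
    rw [← hRN]; exact card_sup_of_disjoint (hRH.trans hHN) hinf
  -- an element with `[u, P] = R`
  obtain ⟨u, hu, hClu⟩ : ∃ u ∈ R, Cl P u = R := by
    by_contra! hno
    have hClR : ∀ u ∈ R, Cl P u ≤ R := fun u hu =>
      (Cl_le_commutator hu).trans (commutator_le_of_normalizes hPR)
    have hproper : ∀ A : Subgroup G, A ≤ R → P ≤ normalizer (A : Set G) → A ≠ R → A ≤ S := by
      intro A hA hPA hne
      refine le_sup_left.trans (hprop (A ⊔ N) (sup_le (hA.trans hRH) hNH) (hsupnorm A hPA)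
        le_sup_right fun e => hne (le_antisymm hA fun y hy => ?_))
      obtain ⟨a, ha, n, hn, rfl⟩ := exists_mul_of_mem_sup ((hA.trans hRH).trans hHN)
        (show y ∈ A ⊔ N from e.ge (hRH hy))
      have h1 : n ∈ N ⊓ R := ⟨hn, by
        have := mul_mem (Subgroup.inv_mem _ (hA ha)) hy
        rwa [inv_mul_cancel_left] at this⟩
      rw [hinf, mem_bot] at h1
      rwa [h1, mul_one]
    refine hHS (hRN.symm.le.trans (sup_le ?_ (fun n hn => ?_)))
    · rw [← commutator_sup_centralizer P R hPR (hm.mono hRH hPR).cop (Or.inl hm.solvableP)]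
      refine sup_le (Subgroup.commutator_le.2 fun y hy π hπ => ?_) ((inf_le_inf_right _ hRH).trans hfix)
      exact hproper (Cl P y⁻¹) (hClR _ (Subgroup.inv_mem _ hy)) (le_normalizer_Cl P y⁻¹)
        (hno _ (Subgroup.inv_mem _ hy)) (commutatorElement_mem_Cl hπ y)
    · refine ⟨hHN (hNH hn), fun m hm' => ?_⟩
      rw [show n * m = m * n from congrArg Subtype.val (hab.is_comm.comm (⟨n, hn⟩ : N) ⟨m, hm'⟩)]
      simp
  -- the derived subgroup and the fixed points of `R` centralise `N`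
  set Y := (R ⊓ centralizer (P : Set G)) ⊔ ⁅R, R⁆ with hY
  have hYR : Y ≤ R := sup_le inf_le_left (commutator_le_self R)
  have hRY : R ≤ normalizer (Y : Set G) := by
    refine Subgroup.le_normalizer_iff.2 fun a ha y hy => ?_
    have e : a * y * a⁻¹ = ⁅a, y⁆ * y := by rw [commutatorElement_def]; group
    rw [e]
    exact mul_mem (mem_sup_right (commutator_mem_commutator ha (hYR hy))) hy
  have hPY : P ≤ normalizer (Y : Set G) := (le_inf
    (fun a ha => inf_normalizer_le_normalizer_inf ⟨hPR ha,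
      CfsgLib.Techniques.normalizer_le_normalizer_centralizer _ (le_normalizer ha)⟩)
    (le_normalizer_commutator_of hPR hPR)).trans (normalizer_inf_normalizer_le_normalizer_sup _ _)
  have hYS : Y ≤ S := by
    refine sup_le ((inf_le_inf_right _ hRH).trans hfix) ?_
    refine le_sup_left.trans (hprop (⁅R, R⁆ ⊔ N) (sup_le ((commutator_le_self R).trans hRH) hNH)
      (hsupnorm _ (le_normalizer_commutator_of hPR hPR)) le_sup_right fun e => ?_)
    haveI := hRr.isNilpotent
    have hRne : R ≠ ⊥ := fun e' => hnq (by rw [← hRN, e', bot_sup_eq]; exact hNq)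
    refine (commutator_lt_of_isPGroup hRr hRr le_normalizer hRne).ne (le_antisymm (commutator_le_self R) ?_)
    intro y hy
    obtain ⟨a, ha, n, hn, rfl⟩ := exists_mul_of_mem_sup
      (((commutator_le_self R).trans hRH).trans hHN) (show y ∈ ⁅R, R⁆ ⊔ N from e.ge (hRH hy))
    have h1 : n ∈ N ⊓ R := ⟨hn, by
      have := mul_mem (Subgroup.inv_mem _ (commutator_le_self R ha)) hy
      rwa [inv_mul_cancel_left] at this⟩
    rw [hinf, mem_bot] at h1
    rwa [h1, mul_one]
  rcases hmin ⁅Y, N⁆ (by rw [commutator_comm]; exact commutator_le_of_normalizes ((hYR.trans hRH).trans hHN))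
    (le_normalizer_commutator_of hPY hPN)
    (hRN.ge.trans (sup_le (le_normalizer_commutator_of hRY (hRH.trans hHN)) (le_normalizer_commutator_right Y N)))
    with hYN | hYN
  swap
  · exact hm.fix_le_of_le_Act hNH hPN hab hYS hYN.ge
  have hYc : Y ≤ centralizer (N : Set G) := commutator_eq_bot_iff_le_centralizer.1 hYN
  by_cases hwhole : ∃ h ∈ H, Cl P h = H
  · obtain ⟨h, hh, e⟩ := hwhole
    intro c hc
    refine inf_le_Lg hh ⟨?_, hc.2⟩
    rw [e]; exact hNH hc.1
  -- every element of `N` is a product of two fixed elements, one of them moved by `u`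
  set C0 := N ⊓ centralizer (P : Set G) with hC0
  have hfac : ∀ v ∈ N, ∃ a ∈ C0, ∃ b ∈ C0, v = a * (u * b * u⁻¹) := fun v hv =>
    exists_factor hm SR hR hPR hRH hNH hPN hHN hab hmin hRN hinf hcard hY hYc hu hClu hwhole hv
  -- counting
  exfalso
  letI : CommGroup N :=
    { (inferInstance : Group N) with mul_comm := fun a b => hab.is_comm.comm a b }
  obtain ⟨g, hgP, hPg, hgp, -⟩ := hm.exists_zpowers
  let act : normalizer (N : Set G) →* MulAut N := N.normalizerMonoidHom
  have hact : ∀ (y : normalizer (N : Set G)) (n : N), ((act y n : N) : G) = y * n * (y : G)⁻¹ :=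
    fun y n => rfl
  have hker : ∀ (y : normalizer (N : Set G)), act y = 1 → (y : G) ∈ centralizer (N : Set G) := by
    intro y hy
    refine mem_centralizer_iff.2 fun n hn => ?_
    have := congrArg Subtype.val (MulEquiv.congr_fun hy ⟨n, hn⟩)
    rw [hact] at this
    exact (mul_inv_eq_iff_eq_mul.1 this).symm
  let B : Subgroup (MulAut N) := (R.subgroupOf (normalizer (N : Set G))).map act
  let x : MulAut N := act ⟨g, hPN hgP⟩
  let bu : MulAut N := act ⟨u, hHN (hRH hu)⟩
  have hRN' := hRH.trans hHN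
  have hxB : x ∈ normalizer (B : Set (MulAut N)) := by
    refine mem_normalizer_of_forall_conj ?_ 
    rintro _ ⟨y, hy, rfl⟩
    rw [← map_mul, ← map_inv, ← map_mul]
    exact ⟨_, (mem_normalizer_conj (hPR hgP) hy : g * (y : G) * g⁻¹ ∈ R), rfl⟩
  have hlt := fixed_sq_lt (p := p) (q := q) hm.ne_two (fun w => Subtype.ext (hpow w w.2)) B
    (by
      rintro _ ⟨y, hy, rfl⟩ _ ⟨z, hz, rfl⟩
      have h1 : ⁅(y : G), (z : G)⁆ ∈ centralizer (N : Set G) :=
        hYc (mem_sup_right (commutator_mem_commutator hy hz))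
      rw [← commutatorElement_eq_one_iff_mul_comm, ← map_commutatorElement]
      refine MulEquiv.ext fun n => Subtype.ext ?_
      rw [hact]
      show ⁅(y : G), (z : G)⁆ * n * ⁅(y : G), (z : G)⁆⁻¹ = n
      rw [← mem_centralizer_iff.1 h1 n n.2, mul_inv_cancel_right])
    x hxB (by rw [← map_pow, show (⟨g, hPN hgP⟩ : normalizer (N : Set G)) ^ p = 1 from Subtype.ext hgp, map_one])
    (by
      intro T hTB hTx
      have hTN : T.map N.subtype ≤ N := map_subtype_le _
      have hRT : R ≤ normalizer (T.map N.subtype : Set G) := by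
        refine Subgroup.le_normalizer_iff.2 fun a ha y hy => ?_
        obtain ⟨w, hw, rfl⟩ := hy
        exact ⟨act ⟨a, hRN' ha⟩ w, hTB _ ⟨_, ha, rfl⟩ w hw, rfl⟩
      have hgT : g ∈ normalizer (T.map N.subtype : Set G) := by
        refine mem_normalizer_of_forall_conj ?_
        rintro _ ⟨w, hw, rfl⟩
        exact ⟨x w, hTx w hw, rfl⟩
      have hNT : N ≤ normalizer (T.map N.subtype : Set G) := by
        refine Subgroup.le_normalizer_iff.2 fun a ha y hy => ?_
        rw [show a * y = y * a from congrArg Subtype.val (hab.is_comm.comm (⟨a, ha⟩ : N) ⟨y, hTN hy⟩),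
          mul_inv_cancel_right]
        exact hy
      rcases hmin _ hTN (by rw [hPg, zpowers_le]; exact hgT) (hRN.ge.trans (sup_le hRT hNT)) with h | h
      · exact Or.inl ((map_eq_bot_iff_of_injective _ N.subtype_injective).1 h)
      · right
        refine eq_top_iff.2 fun w _ => ?_
        exact (mem_map_iff_mem N.subtype_injective).1 (show (w : G) ∈ T.map N.subtype from h.ge w.2))
    (b := bu) ⟨_, hu, rfl⟩ (by
      intro e
      refine hnc ?_
      rw [← hm.comm] at hnc ⊢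
      rw [hm.comm, commutator_eq_bot_iff_le_centralizer, ← hRN, le_centralizer_iff]
      refine sup_le ?_ (fun n hn => mem_centralizer_iff.2 fun m hm' =>
        congrArg Subtype.val (hab.is_comm.comm (⟨m, hm'⟩ : N) ⟨n, hn⟩))
      rw [← hClu, Cl, closure_le]
      rintro _ ⟨π, hπ, rfl⟩
      have hc : Commute (act ⟨π, hPN hπ⟩) bu := by
        have hle : P ≤ ((Subgroup.centralizer ({bu} : Set (MulAut N))).comap act).map
            (normalizer (N : Set G)).subtype := by
          rw [hPg, zpowers_le]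
          exact ⟨⟨g, hPN hgP⟩, mem_centralizer_singleton_iff.2 e, rfl⟩
        obtain ⟨π', hπ', e'⟩ := hle hπ
        have : π' = ⟨π, hPN hπ⟩ := Subtype.ext e'
        subst this
        exact mem_centralizer_singleton_iff.1 hπ'
      have := hker (⟨u, hHN (hRH hu)⟩⁻¹ * ⟨π, hPN hπ⟩ * ⟨u, hHN (hRH hu)⟩ * ⟨π, hPN hπ⟩⁻¹) (by
        rw [map_mul, map_mul, map_mul, map_inv, map_inv]
        show bu⁻¹ * act ⟨π, hPN hπ⟩ * bu * (act ⟨π, hPN hπ⟩)⁻¹ = 1
        rw [mul_assoc bu⁻¹, hc.eq]; group)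
      exact this)
  have hc1 : Nat.card {w : N // x w = w} = Nat.card C0 := by
    refine Nat.card_congr ⟨fun v => ⟨v.1.1, v.1.2, ?_⟩, fun c => ⟨⟨c.1, c.2.1⟩, Subtype.ext ?_⟩,
      fun v => rfl, fun c => rfl⟩
    · show (v.1 : G) ∈ centralizer (P : Set G)
      rw [hPg, zpowers_eq_closure, centralizer_closure, mem_centralizer_singleton_iff]
      exact (mul_inv_eq_iff_eq_mul.1 (congrArg Subtype.val v.2 : g * (v.1 : G) * g⁻¹ = v.1)).symm
    · show g * (c : G) * g⁻¹ = c
      rw [mem_centralizer_iff.1 c.2.2 g hgP, mul_inv_cancel_right]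
  have hle : Nat.card N ≤ Nat.card C0 * Nat.card C0 := by
    rw [← Nat.card_prod]
    refine Nat.card_le_card_of_surjective (fun cd : C0 × C0 => (⟨cd.1 * (u * cd.2 * u⁻¹),
      mul_mem cd.1.2.1 (mem_normalizer_conj (hHN (hRH hu)) cd.2.2.1)⟩ : N)) ?_
    intro n
    obtain ⟨a, ha, b, hb, e⟩ := hfac n n.2
    exact ⟨(⟨a, ha⟩, ⟨b, hb⟩), Subtype.ext e.symm⟩
  rw [hc1] at hlt
  exact absurd hle (not_le.2 hlt)

theorem fix_le (hm : Minimal p P H) : H ⊓ centralizer (P : Set G) ≤ Lg P H := by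
  by_cases hHne : H = ⊥
  · subst hHne; rw [bot_inf_eq]; exact bot_le
  obtain ⟨N, q, hq, hNH, hNne, hPN, hHN, hab, hpow, hmin⟩ := exists_minimal hm.toSetting hHne
  haveI := Fact.mk hq
  by_cases hHq : IsPGroup q H
  · exact fix_le_of_isPGroup hm hHq
  have hNq : IsPGroup q N := fun n => ⟨1, Subtype.ext (by rw [pow_one]; exact hpow n n.2)⟩
  by_cases hcen : ⁅N, H⁆ = ⊥
  · exact fix_le_of_central hm hHq hNH hNne hPN hHN hNq hcen
  intro c hc
  obtain ⟨l, hl, n, hn, rfl⟩ := exists_mul_of_mem_sup (hm.Lg_le.trans hHN) (hm.quot N hNH hNne hPN hHN hc)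
  refine mul_mem hl (fix_le_of_noncentral hm hHq hNH hNne hPN hHN hab hpow hmin hcen ⟨hn, ?_⟩)
  have := mul_mem (Subgroup.inv_mem _ (Lg_le_centralizer P H hl)) hc.2
  rwa [inv_mul_cancel_left] at this

end Minimal

/-- The fixed points in `[H, P]` are generated by the fixed points in the `[h, P]`. -/
theorem inf_centralizer_le_Lg : ∀ (n : ℕ) {G : Type u} [Group G] [Finite G] {P H : Subgroup G},
    Setting p P H → Nat.card H = n → ⁅H, P⁆ ⊓ centralizer (P : Set G) ≤ Lg P H := by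
  intro n
  induction n using Nat.strong_induction_on with
  | _ n ih =>
  intro G _ _ P H hs hn
  have hlt : ∀ M : Subgroup G, M ≤ H → M ≠ H → Nat.card M < n := fun M hMH hne =>
    hn ▸ lt_of_le_of_ne (Nat.le_of_dvd Nat.card_pos (card_dvd_of_le hMH))
      fun e => hne (eq_of_le_of_card_ge hMH e.ge)
  have hsub : ∀ M : Subgroup G, M ≤ H → M ≠ H → P ≤ normalizer (M : Set G) →
      ⁅M, P⁆ ⊓ centralizer (P : Set G) ≤ Lg P H := fun M hMH hne hPM =>
    (ih _ (hlt M hMH hne) (hs.mono hMH hPM) rfl).trans (Lg_mono hMH)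
  by_cases hcomm : ⁅H, P⁆ = H
  swap
  · have h := hsub ⁅H, P⁆ hs.commutator_le hcomm (le_normalizer_commutator_right H P)
    rwa [commutator_commutator_eq P H hs.norm hs.cop (Or.inl hs.solvableP)] at h
  rw [hcomm]
  refine Minimal.fix_le ⟨hs, hcomm, hsub, fun N hNH hNne hPN hHN => ?_⟩
  set M := normalizer (N : Set G) with hM
  haveI : (N.subgroupOf M).Normal := normal_subgroupOf_of_le_normalizer le_rfl
  set f := QuotientGroup.mk' (N.subgroupOf M) with hf
  set P' := P.subgroupOf M with hP'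
  set H' := H.subgroupOf M with hH'
  have hkerle : f.ker ≤ H' := by
    rw [hf, QuotientGroup.ker_mk']
    exact fun y hy => hNH hy
  have hPcard : Nat.card (P'.map f) = p := by
    rw [← hs.card, ← card_subgroupOf hPN]
    refine card_map_of_disjoint f (eq_bot_iff.2 fun y hy => mem_bot.2 (Subtype.ext ?_))
    have h1 : (y : G) ∈ P ⊓ H := ⟨hy.2, hkerle hy.1⟩
    rwa [hs.inf_eq_bot, mem_bot] at h1
  have hs' : Setting p P' H' := by
    refine ⟨hs.prime, hs.ne_two, Subgroup.le_normalizer_iff.2 fun a ha y hy =>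
      (mem_normalizer_conj (hs.norm ha) hy : (a : G) * y * (a : G)⁻¹ ∈ H), ?_, ?_, ?_⟩
    · rw [card_subgroupOf hPN, hs.card]
    · rw [card_subgroupOf hPN, card_subgroupOf hHN]; exact hs.cop
    · exact @Group.isSolvable_of_surjective _ _ _ _ (subgroupOfEquivOfLe hHN).symm.toMonoidHom
        (subgroupOfEquivOfLe hHN).symm.surjective hs.solv
  have hsq : Setting p (P'.map f) (H'.map f) := by
    refine ⟨hs.prime, hs.ne_two, (map_mono hs'.norm).trans (le_normalizer_map f), hPcard, ?_, ?_⟩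
    · rw [hPcard, ← hs'.card]
      exact hs'.cop.coprime_dvd_right (card_map_dvd _ _)
    · exact @Group.isSolvable_of_surjective _ _ _ _ (f.subgroupMap H') (f.subgroupMap_surjective H') hs'.solv
  have hcardlt : Nat.card (H'.map f) < n := by
    have h1 := card_map_mul_inf_ker f H'
    rw [inf_eq_left.2 hkerle, hf, QuotientGroup.ker_mk', card_subgroupOf (le_normalizer : N ≤ M),
      card_subgroupOf hHN, hn] at h1
    rw [← h1]
    exact lt_mul_of_one_lt_right Nat.card_pos ((one_lt_card_iff_ne_bot N).2 hNne)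
  have hcomm' : H' = ⁅H', P'⁆ := map_injective M.subtype_injective (by
    rw [map_commutator, map_subgroupOf_eq_of_le hHN, map_subgroupOf_eq_of_le hPN, hcomm])
  have key := ih _ hcardlt hsq rfl
  rw [← map_commutator, ← hcomm'] at key
  intro c hc
  have hcM : c ∈ M := hHN hc.1
  have h1 : f ⟨c, hcM⟩ ∈ (Lg P' H').map f := hs'.Lg_map_le f (key ⟨mem_map_of_mem f hc.1, by
    refine mem_centralizer_iff.2 ?_
    rintro _ ⟨π, hπ, rfl⟩
    rw [← map_mul, ← map_mul]
    exact congrArg f (Subtype.ext (mem_centralizer_iff.1 hc.2 π hπ))⟩)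
  obtain ⟨l, hl, e⟩ := h1
  have hlG : (l : G) ∈ Lg P H := by
    have h2 := map_Lg_le M.subtype P' H' (mem_map_of_mem M.subtype hl)
    rwa [map_subgroupOf_eq_of_le hHN, map_subgroupOf_eq_of_le hPN] at h2
  have h3 : (l : G)⁻¹ * c ∈ N := by
    have h4 : f (l⁻¹ * ⟨c, hcM⟩) = 1 := by rw [map_mul, map_inv, e, inv_mul_cancel]
    exact mem_subgroupOf.1 ((QuotientGroup.eq_one_iff (N := N.subgroupOf M) _).1 h4)
  rw [show c = (l : G) * ((l : G)⁻¹ * c) by group]
  exact mul_mem (mem_sup_left hlG) (mem_sup_right h3)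

end CfsgLib.Coprime.ElemFix
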